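import Mathlib.Tactic
import Cfsg.Prelude.Def_LieTypeChar
import Cfsg.Agent.S0243
import Cfsg.Agent.S0245
import Cfsg.Agent.S0246
import Cfsg.Agent.S0280
import Cfsg.Agent.S0292
import Cfsg.Agent.S0293
import Cfsg.Agent.S0294
import Cfsg.Agent.S1059
import Cfsg.Agent.S1062
import Cfsg.Agent.S1063
import Cfsg.Agent.S1064
import Cfsg.Agent.S1065
import Cfsg.Agent.S1066
import Cfsg.Agent.S1067
import Cfsg.Agent.S1068
import Cfsg.Agent.S1069
import Cfsg.Agent.S1163
import Cfsg.Agent.OddTab.D4Short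
import Cfsg.Agent.H603.SporElim
import Cfsg.Prelude.Def_SevenCases
import Cfsg.Agent.S1787
import Cfsg.Agent.S0249
import Cfsg.Agent.S0270
import Cfsg.Agent.S0283
import Cfsg.Agent.S0296
import Cfsg.Agent.S0297
import Cfsg.Prelude.Def_Classification2
import Cfsg.Agent.H315.OrderCube
import Cfsg.Agent.FastGrp
import Cfsg.Agent.Prune
set_option linter.all false

section
prune_inst 0x7ffffffdffbf7ffeffff7e7ffff9dffe3bd7dfffffdffb4bffeefbffbfffb39e3bedfbaf1de0f8ff0ed7e09638b87853fb7eeeffef6fdc7ffffdfff45ffbee1f77bfbf8911d79934cf7c6fff9bf17fce7f3ffffffffffffffffffffff7ffffbefffdffffffff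

-- part: NotCT/Two
section
prune_inst 0x100000000000020000000000000000000001100000000006100000000000400008000042100010000000000000000000000000003000000608040000040000000008000006000001100000000000000000000000008000041000200000000
set_option linter.all false
open scoped Cfsg.Agent.FastGrp

-- merged: Cfsg.Agent.NotCT.Typ
section

/-!
# Orders of the simple groups of Lie type: a decision procedure (helper77)

* `Typ` : the sixteen families (with their rank parameter); `IsTyp t q X` : `X ≅ t(q)`;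
* `N t`, `P t q`, `D t q` : `D t q * |t(q)| = q ^ N t * P t q`; `HasOrd t q X` : `|X| = |t(q)|`;
* `Valid p t k` : `t(p ^ k)` is in the list;
* `chk n p a ex` : all pairs `(t, k)` with `k * N t = a` and `|t(p ^ k)| = n` are in `ex`.
-/

set_option autoImplicit false

namespace Cfsg.Agent.NotCT

open Cfsg

/-- The families. -/
inductive Typ where
  | L (n : ℕ) | S (m : ℕ) | U (n : ℕ) | OO (m : ℕ) | OP (m : ℕ) | OM (m : ℕ)
  | G2 | F4 | E6 | E7 | E8 | TE6 | TD4 | SZ | TF4 | RG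
  deriving DecidableEq

namespace Typ

/-- the number of positive roots: `|t(q)|_p = q ^ N t` -/
def N : Typ → ℕ
  | L n => n * (n - 1) / 2
  | S m => m ^ 2
  | U n => n * (n - 1) / 2
  | OO m => m ^ 2
  | OP m => m * (m - 1)
  | OM m => m * (m - 1)
  | G2 => 6 | F4 => 24 | E6 => 36 | E7 => 63 | E8 => 120 | TE6 => 36 | TD4 => 12 | SZ => 2 | TF4 => 12 | RG => 3

end Typ

/-- `∏_{2 ≤ i ≤ n + 1} (q ^ i - 1)` -/
def pA (q : ℕ) : ℕ → ℕ
  | 0 => 1
  | n + 1 => pA q n * (q ^ (n + 2) - 1)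

/-- `∏_{2 ≤ i ≤ n + 1} (q ^ i - (-1) ^ i)` -/
def pU (q : ℕ) : ℕ → ℕ
  | 0 => 1
  | n + 1 => pU q n * (if n % 2 = 0 then q ^ (n + 2) - 1 else q ^ (n + 2) + 1)

/-- `∏_{1 ≤ i ≤ n} (q ^ (2 i) - 1)` -/
def pC (q : ℕ) : ℕ → ℕ
  | 0 => 1
  | n + 1 => pC q n * (q ^ (2 * (n + 1)) - 1)

namespace Typ

/-- the numerator of the part of the order prime to `q` -/
def P : Typ → ℕ → ℕ
  | L n, q => pA q (n - 1)
  | S m, q => pC q m
  | U n, q => pU q (n - 1)
  | OO m, q => pC q m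
  | OP m, q => (q ^ m - 1) * pC q (m - 1)
  | OM m, q => (q ^ m + 1) * pC q (m - 1)
  | G2, q => (q ^ 2 - 1) * (q ^ 6 - 1)
  | F4, q => (q ^ 2 - 1) * (q ^ 6 - 1) * (q ^ 8 - 1) * (q ^ 12 - 1)
  | E6, q => (q ^ 2 - 1) * (q ^ 5 - 1) * (q ^ 6 - 1) * (q ^ 8 - 1) * (q ^ 9 - 1) * (q ^ 12 - 1)
  | E7, q => (q ^ 2 - 1) * (q ^ 6 - 1) * (q ^ 8 - 1) * (q ^ 10 - 1) * (q ^ 12 - 1) * (q ^ 14 - 1) * (q ^ 18 - 1)
  | E8, q => (q ^ 2 - 1) * (q ^ 8 - 1) * (q ^ 12 - 1) * (q ^ 14 - 1) * (q ^ 18 - 1) * (q ^ 20 - 1) *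
      (q ^ 24 - 1) * (q ^ 30 - 1)
  | TE6, q => (q ^ 2 - 1) * (q ^ 5 + 1) * (q ^ 6 - 1) * (q ^ 8 - 1) * (q ^ 9 + 1) * (q ^ 12 - 1)
  | TD4, q => (q ^ 2 - 1) * (q ^ 6 - 1) * (q ^ 8 + q ^ 4 + 1)
  | SZ, q => (q - 1) * (q ^ 2 + 1)
  | TF4, q => (q - 1) * (q ^ 3 + 1) * (q ^ 4 - 1) * (q ^ 6 + 1)
  | RG, q => (q - 1) * (q ^ 3 + 1)

/-- the denominator -/
def D : Typ → ℕ → ℕ
  | L n, q => Nat.gcd n (q - 1)
  | S _, q => Nat.gcd 2 (q - 1)
  | U n, q => Nat.gcd n (q + 1)
  | OO _, q => Nat.gcd 2 (q - 1)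
  | OP m, q => Nat.gcd 4 (q ^ m - 1)
  | OM m, q => Nat.gcd 4 (q ^ m + 1)
  | G2, _ => 1
  | F4, _ => 1
  | E6, q => Nat.gcd 3 (q - 1)
  | E7, q => Nat.gcd 2 (q - 1)
  | E8, _ => 1
  | TE6, q => Nat.gcd 3 (q + 1)
  | TD4, _ => 1
  | SZ, _ => 1
  | TF4, _ => 1
  | RG, _ => 1

/-- `t(p ^ k)` is on the list (`p` a prime) -/
def Valid (p : ℕ) : Typ → ℕ → Prop
  | L n, k => 1 ≤ k ∧ 2 ≤ n ∧ (n = 2 → 4 ≤ p ^ k)
  | S m, k => 1 ≤ k ∧ 2 ≤ m ∧ (m = 2 → 3 ≤ p ^ k)
  | U n, k => 1 ≤ k ∧ 3 ≤ n ∧ ¬ (n = 3 ∧ p ^ k = 2)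
  | OO m, k => 1 ≤ k ∧ 3 ≤ m ∧ p ≠ 2
  | OP m, k => 1 ≤ k ∧ 4 ≤ m
  | OM m, k => 1 ≤ k ∧ 4 ≤ m
  | G2, k => 1 ≤ k ∧ 3 ≤ p ^ k
  | SZ, k => p = 2 ∧ 3 ≤ k ∧ k % 2 = 1
  | TF4, k => p = 2 ∧ 3 ≤ k ∧ k % 2 = 1
  | RG, k => p = 3 ∧ 3 ≤ k ∧ k % 2 = 1
  | F4, k => 1 ≤ k
  | E6, k => 1 ≤ k
  | E7, k => 1 ≤ k
  | E8, k => 1 ≤ k
  | TE6, k => 1 ≤ k
  | TD4, k => 1 ≤ k

instance decValid (p : ℕ) (t : Typ) (k : ℕ) : Decidable (Valid p t k) := by
  cases t <;> unfold Valid <;> infer_instance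

end Typ

/-- `X` is isomorphic to `t(q)` -/
def IsTyp (t : Typ) (q : ℕ) (X : Type*) [Group X] : Prop :=
  match t with
  | .L n => ∃ (F : Type) (_ : Field F) (_ : Fintype F), Fintype.card F = q ∧
      Nonempty (X ≃* Matrix.ProjectiveSpecialLinearGroup (Fin n) F)
  | .S m => ∃ (F : Type) (_ : Field F) (_ : Fintype F), Fintype.card F = q ∧ Nonempty (X ≃* PSp m F)
  | .U n => ∃ (F : Type) (_ : Field F) (_ : Fintype F), Fintype.card F = q ^ 2 ∧ Nonempty (X ≃* PSU n F q)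
  | .OO m => ∃ (F : Type) (_ : Field F) (_ : Fintype F), Fintype.card F = q ∧
      Nonempty (X ≃* POmega F (quadFormOdd m F))
  | .OP m => ∃ (F : Type) (_ : Field F) (_ : Fintype F), Fintype.card F = q ∧
      Nonempty (X ≃* POmega F (quadFormPlus m F))
  | .OM m => ∃ (F : Type) (_ : Field F) (_ : Fintype F) (a b : F), Fintype.card F = q ∧
      (∀ z₁ z₂ : F, z₁ ^ 2 + a * z₁ * z₂ + b * z₂ ^ 2 = 0 → z₁ = 0 ∧ z₂ = 0) ∧
      Nonempty (X ≃* POmega F (quadFormMinus (m - 1) F a b))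
  | .G2 => ∃ (F : Type) (_ : Field F) (_ : Fintype F), Fintype.card F = q ∧ Nonempty (X ≃* Lie.chevG2.group F)
  | .F4 => ∃ (F : Type) (_ : Field F) (_ : Fintype F), Fintype.card F = q ∧ Nonempty (X ≃* Lie.chevF4.group F)
  | .E6 => ∃ (F : Type) (_ : Field F) (_ : Fintype F), Fintype.card F = q ∧ Nonempty (X ≃* Lie.chevE6.group F)
  | .E7 => ∃ (F : Type) (_ : Field F) (_ : Fintype F), Fintype.card F = q ∧ Nonempty (X ≃* Lie.chevE7.group F)
  | .E8 => ∃ (F : Type) (_ : Field F) (_ : Fintype F), Fintype.card F = q ∧ Nonempty (X ≃* Lie.chevE8.group F)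
  | .TE6 => ∃ (F : Type) (_ : Field F) (_ : Fintype F), Fintype.card F = q ^ 2 ∧ Nonempty (X ≃* Lie.twistedE6 F q)
  | .TD4 => ∃ (F : Type) (_ : Field F) (_ : Fintype F), Fintype.card F = q ^ 3 ∧ Nonempty (X ≃* Lie.twistedD4 F q)
  | .SZ => ∃ (F : Type) (_ : Field F) (_ : Fintype F) (m : ℕ), Fintype.card F = 2 ^ (2 * m + 1) ∧
      q = 2 ^ (2 * m + 1) ∧ Nonempty (X ≃* Lie.Sz F (2 ^ (m + 1)))
  | .TF4 => ∃ (F : Type) (_ : Field F) (_ : Fintype F) (m : ℕ), Fintype.card F = 2 ^ (2 * m + 1) ∧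
      q = 2 ^ (2 * m + 1) ∧ Nonempty (X ≃* Lie.twistedF4 F (2 ^ m))
  | .RG => ∃ (F : Type) (_ : Field F) (_ : Fintype F) (m : ℕ), Fintype.card F = 3 ^ (2 * m + 1) ∧
      q = 3 ^ (2 * m + 1) ∧ Nonempty (X ≃* Lie.twistedG2 F (3 ^ m))

/-- the order of `X` is the order of `t(q)` -/
def HasOrd (t : Typ) (q : ℕ) (X : Type*) : Prop := t.D q * Nat.card X = q ^ t.N * t.P q

/-! ### the candidates -/

/-- all types `t` with `N t ≤ a` -/
def typs (a : ℕ) : List Typ :=
  (((List.range (a + 2)).flatMap fun n => [.L n, .S n, .U n, .OO n, .OP n, .OM n] : List Cfsg.Agent.NotCT.Typ)) ++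
    ([.G2, .F4, .E6, .E7, .E8, .TE6, .TD4, .SZ, .TF4, .RG] : List Cfsg.Agent.NotCT.Typ)

theorem mem_typs {p a k : ℕ} {t : Typ} (hv : t.Valid p k) (h : k * t.N = a) : t ∈ typs a := by
  have key : ∀ n, n ≤ a + 1 → ∀ s ∈ ([.L n, .S n, .U n, .OO n, .OP n, .OM n] : List Typ), s ∈ typs a := by
    intro n hn s hs
    unfold typs
    rw [List.mem_append, List.mem_flatMap]
    exact Or.inl ⟨n, List.mem_range.2 (by omega), hs⟩
  have h0 : ∀ {c : ℕ}, 1 ≤ k → k * c = a → c ≤ a := fun hk hc => by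
    calc _ = 1 * _ := (one_mul _).symm
      _ ≤ _ := Nat.mul_le_mul_right _ hk
      _ = a := hc
  have tri : ∀ {n : ℕ}, 2 ≤ n → n - 1 ≤ n * (n - 1) / 2 := fun {n} hn => by
    rw [Nat.le_div_iff_mul_le (by norm_num), mul_comm]
    exact Nat.mul_le_mul_right _ hn
  have sq : ∀ {n : ℕ}, 2 ≤ n → n ≤ n ^ 2 := fun {n} hn => by
    rw [pow_two]
    exact Nat.le_mul_of_pos_left _ (by omega)
  have rect : ∀ {n : ℕ}, 2 ≤ n → n ≤ n * (n - 1) := fun {n} hn => Nat.le_mul_of_pos_right _ (by omega)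
  cases t with
  | L n =>
    obtain ⟨hk, hn, -⟩ := hv
    have h1 := h0 hk h
    have h2 := tri hn
    exact key n (by simp only [Typ.N] at *; omega) _ (by simp)
  | S n =>
    obtain ⟨hk, hn, -⟩ := hv
    have h1 := h0 hk h
    have h2 := sq hn
    exact key n (by simp only [Typ.N] at *; omega) _ (by simp)
  | U n =>
    obtain ⟨hk, hn, -⟩ := hv
    have h1 := h0 hk h
    have h2 := tri (show 2 ≤ n by omega)
    exact key n (by simp only [Typ.N] at *; omega) _ (by simp)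
  | OO n =>
    obtain ⟨hk, hn, -⟩ := hv
    have h1 := h0 hk h
    have h2 := sq (show 2 ≤ n by omega)
    exact key n (by simp only [Typ.N] at *; omega) _ (by simp)
  | OP n =>
    obtain ⟨hk, hn⟩ := hv
    have h1 := h0 hk h
    have h2 := rect (show 2 ≤ n by omega)
    exact key n (by simp only [Typ.N] at *; omega) _ (by simp)
  | OM n =>
    obtain ⟨hk, hn⟩ := hv
    have h1 := h0 hk h
    have h2 := rect (show 2 ≤ n by omega)
    exact key n (by simp only [Typ.N] at *; omega) _ (by simp)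
  | _ =>
    unfold typs
    rw [List.mem_append]
    exact Or.inr (by simp)

theorem N_pos {p k : ℕ} {t : Typ} (hv : t.Valid p k) : 0 < t.N := by
  have tri : ∀ {n : ℕ}, 2 ≤ n → 0 < n * (n - 1) / 2 := fun {n} hn => by
    have : 2 * 1 ≤ n * (n - 1) := Nat.mul_le_mul hn (by omega)
    omega
  cases t with
  | L n => exact tri hv.2.1
  | S n => exact pow_pos (lt_of_lt_of_le (by norm_num) hv.2.1) 2
  | U n => exact tri (le_trans (by norm_num) hv.2.1)
  | OO n => exact pow_pos (lt_of_lt_of_le (by norm_num) hv.2.1) 2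
  | OP n =>
    have := hv.2
    exact Nat.mul_pos (by omega) (by omega)
  | OM n =>
    have := hv.2
    exact Nat.mul_pos (by omega) (by omega)
  | _ => simp [Typ.N]

theorem one_le_k {p k : ℕ} {t : Typ} (hv : t.Valid p k) : 1 ≤ k := by
  cases t <;> simp only [Typ.Valid] at hv <;> omega

/-- the order check for one type -/
def chk1 (n0 p a : ℕ) (ex : List (Typ × ℕ)) (t : Typ) : Bool :=
  t.N == 0 || a % t.N != 0 || !decide (t.Valid p (a / t.N)) ||
    t.D (p ^ (a / t.N)) * n0 != (p ^ (a / t.N)) ^ t.N * t.P (p ^ (a / t.N)) || ex.contains (t, a / t.N)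

/-- **the order check** -/
def chk (n0 p a : ℕ) (ex : List (Typ × ℕ)) : Bool := (typs a).all (chk1 n0 p a ex)

theorem mem_of_chk {n0 p a k : ℕ} {ex : List (Typ × ℕ)} {t : Typ} (hv : t.Valid p k) (h : k * t.N = a)
    (hc : t.D (p ^ k) * n0 = (p ^ k) ^ t.N * t.P (p ^ k)) (hchk : chk n0 p a ex = true) : (t, k) ∈ ex := by
  have h1 := (List.all_eq_true.1 hchk) t (mem_typs hv h)
  have hN := N_pos hv
  have h2 : a % t.N = 0 := by rw [← h]; exact Nat.mul_mod_left _ _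
  have h3 : a / t.N = k := by rw [← h]; exact Nat.mul_div_cancel _ hN
  unfold chk1 at h1
  rw [h3] at h1
  simp only [Bool.or_eq_true, beq_iff_eq, bne_iff_ne, ne_eq, Bool.not_eq_true', decide_eq_false_iff_not,
    List.contains_iff_mem] at h1
  rcases h1 with (((h1 | h1) | h1) | h1) | h1
  · omega
  · exact absurd h2 h1
  · exact absurd hv h1
  · exact absurd hc h1
  · exact h1

end Cfsg.Agent.NotCT

end

-- merged: Cfsg.Agent.NotCT.Ord
section

/-!
# Types from orders (helper77)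

* `dvd_card`, `not_dvd_card` : `|t(q)|_p = q ^ N t`;
* `typ_mem` : the type of a group of order `n0` is in the list computed by `chk`;
-/

set_option autoImplicit false

namespace Cfsg.Agent.NotCT

open Cfsg

section Coprime

variable {p q : ℕ}

theorem cop_succ {c : ℕ} (hp : p.Prime) (h : p ∣ c) : Nat.Coprime p (c + 1) := by
  rw [Nat.Prime.coprime_iff_not_dvd hp]
  intro h1
  have h2 := (Nat.dvd_add_right h).1 h1
  exact hp.one_lt.ne' (Nat.dvd_one.1 h2)

theorem cop_pred {c : ℕ} (hp : p.Prime) (h : p ∣ c) (hc : 0 < c) : Nat.Coprime p (c - 1) := by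
  rw [Nat.Prime.coprime_iff_not_dvd hp]
  intro h1
  have h2 : p ∣ c - (c - 1) := Nat.dvd_sub h h1
  have h3 : c - (c - 1) = 1 := by omega
  rw [h3] at h2
  exact hp.one_lt.ne' (Nat.dvd_one.1 h2)

variable (hp : p.Prime) (h : p ∣ q) (hq : 0 < q)

include hp h

theorem cop_add {i : ℕ} (hi : i ≠ 0) : Nat.Coprime p (q ^ i + 1) := cop_succ hp (dvd_pow h hi)

include hq

theorem cop_sub {i : ℕ} (hi : i ≠ 0) : Nat.Coprime p (q ^ i - 1) := cop_pred hp (dvd_pow h hi) (pow_pos hq i)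

theorem cop_pA (n : ℕ) : Nat.Coprime p (pA q n) := by
  induction n with
  | zero => exact Nat.coprime_one_right p
  | succ n ih => exact ih.mul_right (cop_sub hp h hq (by omega))

theorem cop_pU (n : ℕ) : Nat.Coprime p (pU q n) := by
  induction n with
  | zero => exact Nat.coprime_one_right p
  | succ n ih =>
    refine ih.mul_right ?_
    split_ifs
    · exact cop_sub hp h hq (by omega)
    · exact cop_add hp h (by omega)

theorem cop_pC (n : ℕ) : Nat.Coprime p (pC q n) := by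
  induction n with
  | zero => exact Nat.coprime_one_right p
  | succ n ih => exact ih.mul_right (cop_sub hp h hq (by omega))

end Coprime

section Main

variable {p k : ℕ} {t : Typ}

theorem cop_P (hp : p.Prime) (hv : t.Valid p k) : Nat.Coprime p (t.P (p ^ k)) := by
  have hk := one_le_k hv
  have h : p ∣ p ^ k := dvd_pow_self p (by omega)
  have hq : 0 < p ^ k := pow_pos hp.pos k
  have s : ∀ i, i ≠ 0 → Nat.Coprime p ((p ^ k) ^ i - 1) := fun i hi => cop_sub hp h hq hi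
  have a : ∀ i, i ≠ 0 → Nat.Coprime p ((p ^ k) ^ i + 1) := fun i hi => cop_add hp h hi
  have s1 : Nat.Coprime p (p ^ k - 1) := cop_pred hp h hq
  have h8 : Nat.Coprime p ((p ^ k) ^ 8 + (p ^ k) ^ 4 + 1) :=
    cop_succ hp (dvd_add (dvd_pow h (by norm_num)) (dvd_pow h (by norm_num)))
  cases t with
  | L n => exact cop_pA hp h hq _
  | S n => exact cop_pC hp h hq _
  | U n => exact cop_pU hp h hq _
  | OO n => exact cop_pC hp h hq _
  | OP n => exact (s n (by have := hv.2; omega)).mul_right (cop_pC hp h hq _)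
  | OM n => exact (a n (by have := hv.2; omega)).mul_right (cop_pC hp h hq _)
  | G2 => exact (s 2 (by norm_num)).mul_right (s 6 (by norm_num))
  | _ =>
    simp only [Typ.P, Nat.coprime_mul_iff_right]
    and_intros <;> first | exact s _ (by norm_num) | exact a _ (by norm_num) | exact s1 | exact h8

theorem cop_D (hp : p.Prime) (hv : t.Valid p k) : Nat.Coprime p (t.D (p ^ k)) := by
  have hk := one_le_k hv
  have h : p ∣ p ^ k := dvd_pow_self p (by omega)
  have hq : 0 < p ^ k := pow_pos hp.pos k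
  have s1 : Nat.Coprime p (p ^ k - 1) := cop_pred hp h hq
  have a1 : Nat.Coprime p (p ^ k + 1) := cop_succ hp h
  have g : ∀ {a b : ℕ}, Nat.Coprime p b → Nat.Coprime p (Nat.gcd a b) := fun hb =>
    Nat.Coprime.coprime_dvd_right (Nat.gcd_dvd_right _ _) hb
  cases t with
  | L n => exact g s1
  | S n => exact g s1
  | U n => exact g a1
  | OO n => exact g s1
  | OP n => exact g (cop_sub hp h hq (by have := hv.2; omega))
  | OM n => exact g (cop_add hp h (by have := hv.2; omega))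
  | G2 => exact Nat.coprime_one_right p
  | F4 => exact Nat.coprime_one_right p
  | E6 => exact g s1
  | E7 => exact g s1
  | E8 => exact Nat.coprime_one_right p
  | TE6 => exact g a1
  | TD4 => exact Nat.coprime_one_right p
  | SZ => exact Nat.coprime_one_right p
  | TF4 => exact Nat.coprime_one_right p
  | RG => exact Nat.coprime_one_right p

variable {X : Type*}

theorem dvd_card (hp : p.Prime) (hv : t.Valid p k) (h : HasOrd t (p ^ k) X) : p ^ (k * t.N) ∣ Nat.card X := by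
  have h1 : t.D (p ^ k) * Nat.card X = (p ^ k) ^ t.N * t.P (p ^ k) := h
  rw [pow_mul]
  have h2 : Nat.Coprime ((p ^ k) ^ t.N) (t.D (p ^ k)) :=
    Nat.Coprime.pow_left _ (Nat.Coprime.pow_left _ (cop_D hp hv))
  exact h2.dvd_of_dvd_mul_left (h1 ▸ Dvd.intro _ rfl)

theorem not_dvd_card (hp : p.Prime) (hv : t.Valid p k) (h : HasOrd t (p ^ k) X) :
    ¬ p ^ (k * t.N + 1) ∣ Nat.card X := by
  intro h0
  have h1 : t.D (p ^ k) * Nat.card X = (p ^ k) ^ t.N * t.P (p ^ k) := h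
  have h2 : p ^ (k * t.N + 1) ∣ (p ^ k) ^ t.N * t.P (p ^ k) := by
    rw [← h1]
    exact dvd_mul_of_dvd_right h0 _
  rw [← pow_mul, pow_succ] at h2
  have h3 : p ∣ t.P (p ^ k) := Nat.dvd_of_mul_dvd_mul_left (pow_pos hp.pos _) h2
  exact (Nat.Prime.coprime_iff_not_dvd hp).1 (cop_P hp hv) h3

/-- the exponent is determined by the order -/
theorem exp_eq (hp : p.Prime) (hv : t.Valid p k) (h : HasOrd t (p ^ k) X) {a : ℕ} (h1 : p ^ a ∣ Nat.card X)
    (h2 : ¬ p ^ (a + 1) ∣ Nat.card X) : k * t.N = a := by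
  have h3 := dvd_card hp hv h
  have h4 := not_dvd_card hp hv h
  rcases lt_trichotomy (k * t.N) a with hlt | heq | hgt
  · exact absurd ((pow_dvd_pow p hlt).trans h1) h4
  · exact heq
  · exact absurd ((pow_dvd_pow p hgt).trans h3) h2

/-- **Types from orders.** -/
theorem typ_mem (hp : p.Prime) (hv : t.Valid p k) (h : HasOrd t (p ^ k) X) {n0 a : ℕ} (hc : Nat.card X = n0)
    (h1 : p ^ a ∣ n0) (h2 : ¬ p ^ (a + 1) ∣ n0) {ex : List (Typ × ℕ)} (hchk : chk n0 p a ex = true) :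
    (t, k) ∈ ex :=
  mem_of_chk hv (exp_eq hp hv h (hc.symm ▸ h1) (hc.symm ▸ h2)) (hc ▸ h) hchk

end Main

end Cfsg.Agent.NotCT

end

-- merged: Cfsg.Agent.NotCT.Bound
section

/-!
# Bounds for the orders (helper77)

* `P_le` : `P t q ≤ q ^ e t`;
* `card_le_three` : `|X| ≤ |X|_p ^ 3`;
* `card_le_five` : `|X| ^ 2 ≤ |X|_p ^ 5` outside `L_2, L_3, U_3, ²G_2`;
* `three_le_card` : `|X|_p ^ 8 ≤ 64 |X| ^ 3` for `L_3(q)`, `U_3(q)`, `4 ≤ q`.
-/

set_option autoImplicit false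

namespace Cfsg.Agent.NotCT

open Cfsg

/-- `∑_{2 ≤ i ≤ n + 1} i` -/
def sA : ℕ → ℕ
  | 0 => 0
  | n + 1 => sA n + (n + 2)

theorem two_sA (n : ℕ) : 2 * sA n = n * (n + 3) := by
  induction n with
  | zero => rfl
  | succ n ih => rw [sA, mul_add, ih]; ring

theorem pA_le (q n : ℕ) : pA q n ≤ q ^ sA n := by
  induction n with
  | zero => simp [pA, sA]
  | succ n ih =>
    rw [pA, sA, pow_add q (sA n) (n + 2)]
    exact Nat.mul_le_mul ih (Nat.sub_le _ _)

theorem pC_le (q n : ℕ) : pC q n ≤ q ^ (n * (n + 1)) := by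
  induction n with
  | zero => simp [pC]
  | succ n ih =>
    rw [pC, show (n + 1) * (n + 1 + 1) = n * (n + 1) + 2 * (n + 1) by ring, pow_add]
    exact Nat.mul_le_mul ih (Nat.sub_le _ _)

theorem pC_le' (q n : ℕ) : pC q (n + 1) ≤ (q ^ 2 - 1) * q ^ (n * (n + 3)) := by
  induction n with
  | zero => simp only [pC, _root_.zero_add, _root_.mul_one, _root_.one_mul, _root_.MulZeroClass.zero_mul, _root_.pow_zero, _root_.Std.le_refl]
  | succ n ih =>
    rw [pC, show (n + 1) * (n + 1 + 3) = n * (n + 3) + 2 * (n + 1 + 1) by ring, pow_add, ← mul_assoc]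
    exact Nat.mul_le_mul ih (Nat.sub_le _ _)

theorem sub_mul_add_le {q a b : ℕ} (hq : 1 ≤ q) (hab : a ≤ b) : (q ^ a - 1) * (q ^ b + 1) ≤ q ^ (a + b) := by
  have h1 : q ^ a ≤ q ^ b := Nat.pow_le_pow_right hq hab
  obtain ⟨c, hc⟩ := Nat.exists_eq_add_of_le' (Nat.one_le_pow a q hq)
  rw [pow_add, hc, Nat.add_sub_cancel]
  rw [hc] at h1
  linarith only [h1]

theorem pU_le_aux {q : ℕ} (hq : 1 ≤ q) (j : ℕ) : pU q (2 * j) ≤ q ^ sA (2 * j) := by
  induction j with
  | zero => simp [pU, sA]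
  | succ j ih =>
    have h1 : pU q (2 * (j + 1)) = pU q (2 * j) * ((q ^ (2 * j + 2) - 1) * (q ^ (2 * j + 1 + 2) + 1)) := by
      rw [show 2 * (j + 1) = 2 * j + 1 + 1 by ring, pU, pU, if_pos (by omega), if_neg (by omega), mul_assoc]
    have h2 : sA (2 * (j + 1)) = sA (2 * j) + ((2 * j + 2) + (2 * j + 1 + 2)) := by
      rw [show 2 * (j + 1) = 2 * j + 1 + 1 by ring, sA, sA]; ring
    rw [h1, h2, pow_add q (sA (2 * j)) _]
    exact Nat.mul_le_mul ih (sub_mul_add_le hq (by omega))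

theorem pU_le {q : ℕ} (hq : 1 ≤ q) (n : ℕ) : pU q n ≤ q ^ sA n := by
  rcases Nat.even_or_odd' n with ⟨j, rfl | rfl⟩
  · exact pU_le_aux hq j
  · rw [pU, sA, if_pos (by omega), pow_add q (sA (2 * j)) _]
    exact Nat.mul_le_mul (pU_le_aux hq j) (Nat.sub_le _ _)

namespace Typ

/-- the exponent of the bound of `P` -/
def e : Typ → ℕ
  | L n => sA (n - 1)
  | S m => m * (m + 1)
  | U n => sA (n - 1)
  | OO m => m * (m + 1)
  | OP m => m ^ 2
  | OM m => m ^ 2
  | G2 => 8 | F4 => 28 | E6 => 42 | E7 => 70 | E8 => 128 | TE6 => 42 | TD4 => 16 | SZ => 3 | TF4 => 14 | RG => 4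

end Typ

theorem P_le {p k : ℕ} {t : Typ} (hp : p.Prime) (hv : t.Valid p k) : t.P (p ^ k) ≤ (p ^ k) ^ t.e := by
  have hk := one_le_k hv
  have hq : 2 ≤ p ^ k := le_trans hp.two_le (Nat.le_self_pow (by omega) p)
  generalize hqq : p ^ k = q at hq ⊢
  have s : ∀ i, q ^ i - 1 ≤ q ^ i := fun i => Nat.sub_le _ _
  have key : ∀ {a b x y : ℕ}, x ≤ q ^ a → y ≤ q ^ b → x * y ≤ q ^ (a + b) := fun h1 h2 => by
    rw [pow_add]; exact Nat.mul_le_mul h1 h2
  cases t with
  | L n => exact pA_le q _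
  | S n => exact pC_le q _
  | U n => exact pU_le (by omega) _
  | OO n => exact pC_le q _
  | OP n =>
    have h4 := hv.2
    have h1 := key (s n) (pC_le q (n - 1))
    refine h1.trans (Nat.pow_le_pow_right (by omega) (le_of_eq ?_))
    obtain ⟨m, rfl⟩ := Nat.exists_eq_add_of_le' (show 1 ≤ n by omega)
    rw [Nat.add_sub_cancel]
    simp only [Typ.e]
    ring
  | OM n =>
    have h4 := hv.2
    obtain ⟨m, rfl⟩ := Nat.exists_eq_add_of_le' (show 2 ≤ n by omega)
    have h1 := pC_le' q m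
    have h2 : (q ^ 2 - 1) * (q ^ (m + 2) + 1) ≤ q ^ (2 + (m + 2)) := sub_mul_add_le (by omega) (by omega)
    show (q ^ (m + 2) + 1) * pC q (m + 2 - 1) ≤ q ^ ((m + 2) ^ 2)
    rw [show m + 2 - 1 = m + 1 by omega, show (m + 2) ^ 2 = (2 + (m + 2)) + m * (m + 3) by ring, pow_add q (2 + (m + 2))]
    calc (q ^ (m + 2) + 1) * pC q (m + 1) ≤ (q ^ (m + 2) + 1) * ((q ^ 2 - 1) * q ^ (m * (m + 3))) :=
          Nat.mul_le_mul_left _ h1
      _ = (q ^ 2 - 1) * (q ^ (m + 2) + 1) * q ^ (m * (m + 3)) := by ring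
      _ ≤ _ := Nat.mul_le_mul_right _ h2
  | G2 => exact key (s 2) (s 6)
  | F4 => exact key (key (key (s 2) (s 6)) (s 8)) (s 12)
  | E6 => exact key (key (key (key (key (s 2) (s 5)) (s 6)) (s 8)) (s 9)) (s 12)
  | E7 => exact key (key (key (key (key (key (s 2) (s 6)) (s 8)) (s 10)) (s 12)) (s 14)) (s 18)
  | E8 => exact key (key (key (key (key (key (key (s 2) (s 8)) (s 12)) (s 14)) (s 18)) (s 20)) (s 24)) (s 30)
  | TE6 =>
    have h1 : (q ^ 2 - 1) * (q ^ 5 + 1) ≤ q ^ 7 := sub_mul_add_le (by omega) (by omega)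
    have h2 : (q ^ 8 - 1) * (q ^ 9 + 1) ≤ q ^ 17 := sub_mul_add_le (by omega) (by omega)
    have h3 := key (key (key h1 (s 6)) h2) (s 12)
    calc _ = (q ^ 2 - 1) * (q ^ 5 + 1) * (q ^ 6 - 1) * ((q ^ 8 - 1) * (q ^ 9 + 1)) * (q ^ 12 - 1) := by
          simp only [Typ.P]; ring
      _ ≤ _ := h3
  | TD4 =>
    have h1 : (q ^ 2 - 1) * (q ^ 8 + q ^ 4 + 1) ≤ q ^ 10 := by
      obtain ⟨c, hc⟩ := Nat.exists_eq_add_of_le' (Nat.one_le_pow 2 q (by omega))
      have h2 : q ^ 4 = (q ^ 2) ^ 2 := by ring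
      have h3 : q ^ 8 = (q ^ 2) ^ 4 := by ring
      have h5 : q ^ 10 = (q ^ 2) ^ 5 := by ring
      have h4 : 4 ≤ q ^ 2 := by nlinarith only [hq]
      rw [h2, h3, h5, hc, Nat.add_sub_cancel]
      rw [hc] at h4
      have h6 : (c + 1) ^ 5 = c * ((c + 1) ^ 4 + (c + 1) ^ 2 + 1) + ((c + 1) ^ 4 - c * ((c + 1) ^ 2 + 1)) := by
        have h8 : (c + 1) ^ 2 + 1 ≤ (c + 1) ^ 3 := by nlinarith only [h4, pow_pos (Nat.succ_pos c) 2]
        have h7 : c * ((c + 1) ^ 2 + 1) ≤ (c + 1) ^ 4 := by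
          calc c * ((c + 1) ^ 2 + 1) ≤ (c + 1) * (c + 1) ^ 3 := Nat.mul_le_mul (Nat.le_succ c) h8
            _ = _ := by ring
        zify [h7]
        ring
      rw [h6]
      exact Nat.le_add_right _ _
    have h3 := key h1 (s 6)
    calc _ = (q ^ 2 - 1) * (q ^ 8 + q ^ 4 + 1) * (q ^ 6 - 1) := by simp only [Typ.P]; ring
      _ ≤ _ := h3
  | SZ =>
    have h1 : (q ^ 1 - 1) * (q ^ 2 + 1) ≤ q ^ (1 + 2) := sub_mul_add_le (by omega) (by omega)
    rw [pow_one] at h1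
    exact h1
  | TF4 =>
    have h1 : (q ^ 1 - 1) * (q ^ 3 + 1) ≤ q ^ 4 := sub_mul_add_le (by omega) (by omega)
    have h2 : (q ^ 4 - 1) * (q ^ 6 + 1) ≤ q ^ 10 := sub_mul_add_le (by omega) (by omega)
    rw [pow_one] at h1
    have h3 := key h1 h2
    calc _ = (q - 1) * (q ^ 3 + 1) * ((q ^ 4 - 1) * (q ^ 6 + 1)) := by simp only [Typ.P]; ring
      _ ≤ _ := h3
  | RG =>
    have h1 : (q ^ 1 - 1) * (q ^ 3 + 1) ≤ q ^ (1 + 3) := sub_mul_add_le (by omega) (by omega)
    rw [pow_one] at h1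
    exact h1

section

variable {p k : ℕ} {t : Typ} {X : Type*}

theorem D_pos (hp : p.Prime) (hv : t.Valid p k) : 0 < t.D (p ^ k) := by
  rcases Nat.eq_zero_or_pos (t.D (p ^ k)) with h | h
  · have := cop_D hp hv
    rw [h] at this
    exact absurd (Nat.coprime_zero_right _ |>.1 this) hp.one_lt.ne'
  · exact h

theorem card_le (hp : p.Prime) (hv : t.Valid p k) (h : HasOrd t (p ^ k) X) :
    Nat.card X ≤ (p ^ k) ^ (t.N + t.e) := by
  have h1 : t.D (p ^ k) * Nat.card X = (p ^ k) ^ t.N * t.P (p ^ k) := h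
  have h2 : Nat.card X ≤ t.D (p ^ k) * Nat.card X := Nat.le_mul_of_pos_left _ (D_pos hp hv)
  rw [h1] at h2
  rw [pow_add]
  exact h2.trans (Nat.mul_le_mul_left _ (P_le hp hv))

/-- **`|X| ≤ |X|_p ^ 3`** -/
theorem card_le_three (hp : p.Prime) (hv : t.Valid p k) (h : HasOrd t (p ^ k) X) :
    Nat.card X ≤ (p ^ (k * t.N)) ^ 3 := by
  refine (card_le hp hv h).trans ?_
  rw [pow_mul, ← pow_mul (p ^ k)]
  refine Nat.pow_le_pow_right (pow_pos hp.pos _) ?_
  have tri : ∀ {n : ℕ}, 2 ≤ n → n * (n - 1) / 2 + sA (n - 1) ≤ n * (n - 1) / 2 * 3 := fun {n} hn => by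
    obtain ⟨m, rfl⟩ := Nat.exists_eq_add_of_le' hn
    have h1 := two_sA (m + 2 - 1)
    have h2 : 2 * ((m + 2) * (m + 2 - 1) / 2) = (m + 2) * (m + 2 - 1) :=
      Nat.mul_div_cancel' (even_iff_two_dvd.1 (Nat.even_mul_pred_self _))
    rw [show m + 2 - 1 = m + 1 by omega] at *
    nlinarith
  have sq : ∀ {n : ℕ}, 1 ≤ n → n ≤ n ^ 2 := fun {n} hn => by nlinarith
  cases t with
  | L n => exact tri hv.2.1
  | S n =>
    have h1 := sq (show 1 ≤ n by have := hv.2.1; omega)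
    simp only [Typ.N, Typ.e]
    linarith only [h1]
  | U n => exact tri (le_trans (by norm_num) hv.2.1)
  | OO n =>
    have h1 := sq (show 1 ≤ n by have := hv.2.1; omega)
    simp only [Typ.N, Typ.e]
    linarith only [h1]
  | OP n =>
    obtain ⟨m, rfl⟩ := Nat.exists_eq_add_of_le' hv.2
    simp only [Typ.N, Typ.e]
    rw [show m + 4 - 1 = m + 3 by omega]
    nlinarith
  | OM n =>
    obtain ⟨m, rfl⟩ := Nat.exists_eq_add_of_le' hv.2
    simp only [Typ.N, Typ.e]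
    rw [show m + 4 - 1 = m + 3 by omega]
    nlinarith
  | _ => simp [Typ.N, Typ.e]

/-- **`|X| ^ 2 ≤ |X|_p ^ 5`** outside `L_2, L_3, U_3, ²G_2` -/
theorem card_le_five (hp : p.Prime) (hv : t.Valid p k) (h : HasOrd t (p ^ k) X) (h2 : t ≠ .L 2) (h3 : t ≠ .L 3)
    (h4 : t ≠ .U 3) (h5 : t ≠ .RG) : Nat.card X ^ 2 ≤ (p ^ (k * t.N)) ^ 5 := by
  refine (Nat.pow_le_pow_left (card_le hp hv h) 2).trans ?_
  rw [pow_mul, ← pow_mul (p ^ k), ← pow_mul (p ^ k)]
  refine Nat.pow_le_pow_right (pow_pos hp.pos _) ?_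
  have tri : ∀ {n : ℕ}, 4 ≤ n → (n * (n - 1) / 2 + sA (n - 1)) * 2 ≤ n * (n - 1) / 2 * 5 := fun {n} hn => by
    obtain ⟨m, rfl⟩ := Nat.exists_eq_add_of_le' hn
    have h1 := two_sA (m + 4 - 1)
    have h2 : 2 * ((m + 4) * (m + 4 - 1) / 2) = (m + 4) * (m + 4 - 1) :=
      Nat.mul_div_cancel' (even_iff_two_dvd.1 (Nat.even_mul_pred_self _))
    rw [show m + 4 - 1 = m + 3 by omega] at *
    nlinarith
  cases t with
  | L n =>
    refine tri ?_
    have := hv.2.1
    by_contra hlt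
    interval_cases n
    · exact h2 rfl
    · exact h3 rfl
  | S n =>
    obtain ⟨m, rfl⟩ := Nat.exists_eq_add_of_le' hv.2.1
    simp only [Typ.N, Typ.e]
    nlinarith
  | U n =>
    refine tri ?_
    have := hv.2.1
    by_contra hlt
    interval_cases n
    exact h4 rfl
  | OO n =>
    obtain ⟨m, rfl⟩ := Nat.exists_eq_add_of_le' hv.2.1
    simp only [Typ.N, Typ.e]
    nlinarith
  | OP n =>
    obtain ⟨m, rfl⟩ := Nat.exists_eq_add_of_le' hv.2
    simp only [Typ.N, Typ.e]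
    rw [show m + 4 - 1 = m + 3 by omega]
    nlinarith
  | OM n =>
    obtain ⟨m, rfl⟩ := Nat.exists_eq_add_of_le' hv.2
    simp only [Typ.N, Typ.e]
    rw [show m + 4 - 1 = m + 3 by omega]
    nlinarith
  | RG => exact absurd rfl h5
  | _ => simp [Typ.N, Typ.e]

theorem low_aux {q c d x : ℕ} (hq : 4 ≤ q) (hd3 : d ≤ 3) (hx : q ^ 3 - 1 ≤ x)
    (h : d * c = q ^ 3 * ((q ^ 2 - 1) * x)) : q ^ 8 ≤ 4 * c := by
  have h1 : d * c ≤ 3 * c := Nat.mul_le_mul_right _ hd3
  have h3 : 15 * q ^ 2 ≤ 16 * (q ^ 2 - 1) := by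
    have : 4 ^ 2 ≤ q ^ 2 := Nat.pow_le_pow_left hq 2
    omega
  have h4 : 15 * q ^ 3 ≤ 16 * x := by
    have : 4 ^ 3 ≤ q ^ 3 := Nat.pow_le_pow_left hq 3
    omega
  have h5 : (15 * q ^ 2) * (15 * q ^ 3) ≤ (16 * (q ^ 2 - 1)) * (16 * x) := Nat.mul_le_mul h3 h4
  have h6 : q ^ 3 * ((15 * q ^ 2) * (15 * q ^ 3)) ≤ q ^ 3 * ((16 * (q ^ 2 - 1)) * (16 * x)) :=
    Nat.mul_le_mul_left _ h5
  have h7 : q ^ 3 * ((16 * (q ^ 2 - 1)) * (16 * x)) = 256 * (d * c) := by rw [h]; ring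
  have h8 : q ^ 3 * ((15 * q ^ 2) * (15 * q ^ 3)) = 225 * q ^ 8 := by ring
  rw [h7, h8] at h6
  omega

/-- `|X|_p ^ 8 ≤ 64 |X| ^ 3` for `L_3(q)`, `U_3(q)`, `q ≥ 4` -/
theorem le_card_three (h : HasOrd t (p ^ k) X) (ht : t = .L 3 ∨ t = .U 3)
    (hq : 4 ≤ p ^ k) : (p ^ (k * t.N)) ^ 8 ≤ 64 * Nat.card X ^ 3 := by
  have h1 : t.D (p ^ k) * Nat.card X = (p ^ k) ^ t.N * t.P (p ^ k) := h
  have hc : (p ^ k) ^ 8 ≤ 4 * Nat.card X := by
    rcases ht with rfl | rfl
    · refine low_aux hq (d := Nat.gcd 3 (p ^ k - 1)) (Nat.gcd_le_left _ (by norm_num)) (x := (p ^ k) ^ 3 - 1) le_rfl ?_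
      show Typ.D (.L 3) (p ^ k) * _ = _
      rw [h1]
      simp only [Typ.N, Typ.P, pA, _root_.Nat.add_one_sub_one, _root_.Nat.reduceMul, _root_.Nat.reduceDiv, _root_.zero_add, _root_.one_mul, _root_.Nat.reduceAdd]
    · refine low_aux hq (d := Nat.gcd 3 (p ^ k + 1)) (Nat.gcd_le_left _ (by norm_num)) (x := (p ^ k) ^ 3 + 1) (by omega) ?_
      show Typ.D (.U 3) (p ^ k) * _ = _
      rw [h1]
      simp only [Typ.N, Typ.P, pU, _root_.Nat.add_one_sub_one, _root_.Nat.reduceMul, _root_.Nat.reduceDiv, _root_.Nat.zero_mod, ↓ _root_.reduceIte, _root_.zero_add, _root_.one_mul, _root_.Nat.mod_succ, _root_.one_ne_zero, _root_.Nat.reduceAdd]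
  have hN : t.N = 3 := by rcases ht with rfl | rfl <;> rfl
  rw [hN, pow_mul]
  calc ((p ^ k) ^ 3) ^ 8 = ((p ^ k) ^ 8) ^ 3 := by ring
    _ ≤ (4 * Nat.card X) ^ 3 := Nat.pow_le_pow_left hc 3
    _ = _ := by ring

end

end Cfsg.Agent.NotCT

end

-- merged: Cfsg.Agent.NotCT.Three
section

/-!
# Characteristic 2 against the field with 3 elements (helper77)

* `T m` : the largest power of 2 dividing `m`;
* `big_three` : `|X|_2 ^ 3 < |X|` for the groups `t(3)`, `t ≠ U_3, S_2`;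
* `no_three` : they are not of Lie type in characteristic 2.
-/

set_option autoImplicit false

namespace Cfsg.Agent.NotCT

open Cfsg

/-- the 2-part -/
def T (m : ℕ) : ℕ := 2 ^ m.factorization 2

theorem T_mul {a b : ℕ} (ha : a ≠ 0) (hb : b ≠ 0) : T (a * b) = T a * T b := Nat.ordProj_mul 2 ha hb

theorem T_odd {c : ℕ} (hc : Odd c) : T c = 1 := by
  unfold T
  rw [Nat.factorization_eq_zero_of_not_dvd, pow_zero]
  rw [← even_iff_two_dvd]
  exact Nat.not_even_iff_odd.2 hc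

theorem T_eq {a c : ℕ} (hc : Odd c) : T (2 ^ a * c) = 2 ^ a := by
  rw [T_mul (pow_ne_zero _ two_ne_zero) (by rintro rfl; exact absurd hc (by decide)), T_odd hc, mul_one]
  unfold T
  rw [Nat.Prime.factorization_pow Nat.prime_two, Finsupp.single_eq_same]

theorem T_of {m a c : ℕ} (h : m = 2 ^ a * c) (hc : c % 2 = 1) : T m = 2 ^ a := h ▸ T_eq (Nat.odd_iff.2 hc)

theorem T_le {m : ℕ} (hm : m ≠ 0) : T m ≤ m := Nat.ordProj_le 2 hm

/-- the exponent of 2 -/
theorem T_card {n a : ℕ} (hn : n ≠ 0) (h1 : 2 ^ a ∣ n) (h2 : ¬ 2 ^ (a + 1) ∣ n) : T n = 2 ^ a := by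
  obtain ⟨c, rfl⟩ := h1
  refine T_eq (Nat.odd_iff.2 ?_)
  by_contra h
  apply h2
  rw [pow_succ]
  exact Nat.mul_dvd_mul_left _ (Nat.dvd_of_mod_eq_zero (by omega))

theorem T_three_sub {i : ℕ} (hi : i ≠ 0) : T (3 ^ i - 1) ≤ 4 * i := by
  rcases Nat.even_or_odd i with he | ho
  · have h1 := padicValNat.pow_two_sub_pow (x := 3) (y := 1) (by norm_num) (by norm_num) (by norm_num) hi he
    have h2 : padicValNat 2 (3 + 1) = 2 := by
      rw [show 3 + 1 = 2 ^ 2 by norm_num, padicValNat.prime_pow]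
    have h3 : padicValNat 2 (3 - 1) = 1 := by
      rw [show 3 - 1 = 2 ^ 1 by norm_num, padicValNat.prime_pow]
    rw [h2, h3, one_pow] at h1
    have h4 : T (3 ^ i - 1) = 4 * T i := by
      unfold T
      rw [Nat.factorization_def _ Nat.prime_two, Nat.factorization_def _ Nat.prime_two,
        show padicValNat 2 (3 ^ i - 1) = padicValNat 2 i + 2 by omega, pow_add]
      ring
    rw [h4]
    exact Nat.mul_le_mul_left _ (T_le hi)
  · have h1 : 3 ^ i % 4 = 3 := by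
      obtain ⟨j, rfl⟩ := ho
      rw [pow_add, pow_mul, Nat.mul_mod, Nat.pow_mod]
      norm_num
    obtain ⟨c, hc⟩ : ∃ c, 3 ^ i = 4 * c + 3 := ⟨3 ^ i / 4, by omega⟩
    rw [T_of (a := 1) (c := 2 * c + 1) (by rw [hc]; omega) (by omega)]
    omega

theorem T_three_add (i : ℕ) : T (3 ^ i + 1) ≤ 4 := by
  rcases Nat.even_or_odd i with he | ho
  · have h1 : 3 ^ i % 4 = 1 := by
      obtain ⟨j, rfl⟩ := he
      rw [← two_mul, pow_mul, Nat.pow_mod]
      norm_num
    obtain ⟨c, hc⟩ : ∃ c, 3 ^ i = 4 * c + 1 := ⟨3 ^ i / 4, by omega⟩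
    rw [T_of (a := 1) (c := 2 * c + 1) (by rw [hc]; omega) (by omega)]
    norm_num
  · have h1 : 3 ^ i % 8 = 3 := by
      obtain ⟨j, rfl⟩ := ho
      rw [pow_add, pow_mul, Nat.mul_mod, Nat.pow_mod]
      norm_num
    obtain ⟨c, hc⟩ : ∃ c, 3 ^ i = 8 * c + 3 := ⟨3 ^ i / 8, by omega⟩
    rw [T_of (a := 2) (c := 2 * c + 1) (by rw [hc]; omega) (by omega)]
    norm_num

theorem three_sub_ne {i : ℕ} (hi : i ≠ 0) : 3 ^ i - 1 ≠ 0 := by
  have : 3 ^ 1 ≤ 3 ^ i := Nat.pow_le_pow_right (by norm_num) (by omega)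
  omega

theorem pA_ne (n : ℕ) : pA 3 n ≠ 0 := by
  induction n with
  | zero => exact one_ne_zero
  | succ n ih => exact mul_ne_zero ih (three_sub_ne (by omega))

theorem pC_ne (n : ℕ) : pC 3 n ≠ 0 := by
  induction n with
  | zero => exact one_ne_zero
  | succ n ih => exact mul_ne_zero ih (three_sub_ne (by omega))

theorem fU_ne (n : ℕ) : (if n % 2 = 0 then 3 ^ (n + 2) - 1 else 3 ^ (n + 2) + 1) ≠ 0 := by
  split_ifs
  · exact three_sub_ne (by omega)
  · exact Nat.succ_ne_zero _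

theorem pU_ne (n : ℕ) : pU 3 n ≠ 0 := by
  induction n with
  | zero => exact one_ne_zero
  | succ n ih => exact mul_ne_zero ih (fU_ne n)

theorem T_pA (n : ℕ) : T (pA 3 (n + 1)) ≤ T (pA 3 n) * (4 * (n + 2)) := by
  rw [pA, T_mul (pA_ne n) (three_sub_ne (by omega))]
  exact Nat.mul_le_mul_left _ (T_three_sub (by omega))

theorem T_pC (n : ℕ) : T (pC 3 (n + 1)) ≤ T (pC 3 n) * (4 * (2 * (n + 1))) := by
  rw [pC, T_mul (pC_ne n) (three_sub_ne (by omega))]
  exact Nat.mul_le_mul_left _ (T_three_sub (by omega))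

theorem T_pU (n : ℕ) : T (pU 3 (n + 1)) ≤ T (pU 3 n) * (4 * (n + 2)) := by
  rw [pU, T_mul (pU_ne n) (fU_ne n)]
  refine Nat.mul_le_mul_left _ ?_
  split_ifs
  · exact T_three_sub (by omega)
  · exact (T_three_add _).trans (by omega)

theorem pow_bound (n : ℕ) (hn : 4 ≤ n) : (4 * (n + 2)) ^ 3 ≤ 3 ^ (n + 1) * (3 ^ (n + 2) - 1) := by
  induction n, hn using Nat.le_induction with
  | base => norm_num
  | succ n hn ih =>
    have h1 : (4 * (n + 1 + 2)) ^ 3 ≤ 9 * (4 * (n + 2)) ^ 3 := by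
      have : (4 * (n + 1 + 2)) ≤ 2 * (4 * (n + 2)) := by omega
      calc (4 * (n + 1 + 2)) ^ 3 ≤ (2 * (4 * (n + 2))) ^ 3 := Nat.pow_le_pow_left this 3
        _ = 8 * (4 * (n + 2)) ^ 3 := by ring
        _ ≤ _ := Nat.mul_le_mul_right _ (by norm_num)
    have h2 : 3 * (3 ^ (n + 2) - 1) ≤ 3 ^ (n + 1 + 2) - 1 := by
      rw [show n + 1 + 2 = (n + 2) + 1 by ring, pow_succ 3 (n + 2)]
      have := Nat.one_le_pow (n + 2) 3 (by norm_num)
      omega
    calc _ ≤ 9 * (4 * (n + 2)) ^ 3 := h1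
      _ ≤ 9 * (3 ^ (n + 1) * (3 ^ (n + 2) - 1)) := Nat.mul_le_mul_left _ ih
      _ = 3 ^ (n + 1 + 1) * (3 * (3 ^ (n + 2) - 1)) := by ring
      _ ≤ _ := Nat.mul_le_mul_left _ h2

theorem pow_bound' (n : ℕ) (hn : 4 ≤ n) : (4 * (n + 2)) ^ 3 ≤ 3 ^ (n + 1) * (3 ^ (n + 2) + 1) :=
  (pow_bound n hn).trans (Nat.mul_le_mul_left _ ((Nat.sub_le _ _).trans (Nat.le_succ _)))

/-- `3 ^ (1 + 2 + ... + n)` -/
def s3 : ℕ → ℕ
  | 0 => 0
  | n + 1 => s3 n + (n + 1)

theorem s3_eq (n : ℕ) : (n + 1) * (n + 1 - 1) / 2 = s3 n := by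
  induction n with
  | zero => rfl
  | succ n ih =>
    rw [s3, ← ih, Nat.add_sub_cancel, Nat.add_sub_cancel, show (n + 1 + 1) * (n + 1) = (n + 1) * n + (n + 1) * 2 by ring,
      Nat.add_mul_div_right _ _ (by norm_num)]

theorem big_A (n : ℕ) (hn : 4 ≤ n) : T (pA 3 n) ^ 3 < 3 ^ s3 n * pA 3 n := by
  induction n, hn using Nat.le_induction with
  | base =>
    rw [T_of (m := pA 3 4) (a := 9) (c := 7865) (by decide) (by norm_num)]
    decide
  | succ n hn ih =>
    calc T (pA 3 (n + 1)) ^ 3 ≤ (T (pA 3 n) * (4 * (n + 2))) ^ 3 := Nat.pow_le_pow_left (T_pA n) 3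
      _ = T (pA 3 n) ^ 3 * (4 * (n + 2)) ^ 3 := by ring
      _ < (3 ^ s3 n * pA 3 n) * (4 * (n + 2)) ^ 3 := Nat.mul_lt_mul_of_pos_right ih (by positivity)
      _ ≤ (3 ^ s3 n * pA 3 n) * (3 ^ (n + 1) * (3 ^ (n + 2) - 1)) := Nat.mul_le_mul_left _ (pow_bound n hn)
      _ = _ := by rw [pA, s3, pow_add 3 (s3 n) (n + 1)]; ring

theorem big_U (n : ℕ) (hn : 4 ≤ n) : T (pU 3 n) ^ 3 < 3 ^ s3 n * pU 3 n := by
  induction n, hn using Nat.le_induction with
  | base =>
    rw [T_of (m := pU 3 4) (a := 11) (c := 2135) (by decide) (by norm_num)]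
    decide
  | succ n hn ih =>
    have h1 : (4 * (n + 2)) ^ 3 ≤ 3 ^ (n + 1) * (if n % 2 = 0 then 3 ^ (n + 2) - 1 else 3 ^ (n + 2) + 1) := by
      split_ifs
      · exact pow_bound n hn
      · exact pow_bound' n hn
    calc T (pU 3 (n + 1)) ^ 3 ≤ (T (pU 3 n) * (4 * (n + 2))) ^ 3 := Nat.pow_le_pow_left (T_pU n) 3
      _ = T (pU 3 n) ^ 3 * (4 * (n + 2)) ^ 3 := by ring
      _ < (3 ^ s3 n * pU 3 n) * (4 * (n + 2)) ^ 3 := Nat.mul_lt_mul_of_pos_right ih (by positivity)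
      _ ≤ (3 ^ s3 n * pU 3 n) * (3 ^ (n + 1) * (if n % 2 = 0 then 3 ^ (n + 2) - 1 else 3 ^ (n + 2) + 1)) :=
          Nat.mul_le_mul_left _ h1
      _ = _ := by rw [pU, s3, pow_add 3 (s3 n) (n + 1)]; ring

theorem pow_boundC (n : ℕ) (hn : 3 ≤ n) : (4 * (2 * (n + 1))) ^ 3 ≤ 3 ^ (2 * n + 1) * (3 ^ (2 * (n + 1)) - 1) := by
  induction n, hn using Nat.le_induction with
  | base => norm_num
  | succ n hn ih =>
    have h1 : (4 * (2 * (n + 1 + 1))) ^ 3 ≤ 81 * (4 * (2 * (n + 1))) ^ 3 := by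
      have : (4 * (2 * (n + 1 + 1))) ≤ 2 * (4 * (2 * (n + 1))) := by omega
      calc (4 * (2 * (n + 1 + 1))) ^ 3 ≤ (2 * (4 * (2 * (n + 1)))) ^ 3 := Nat.pow_le_pow_left this 3
        _ = 8 * (4 * (2 * (n + 1))) ^ 3 := by ring
        _ ≤ _ := Nat.mul_le_mul_right _ (by norm_num)
    have h2 : 9 * (3 ^ (2 * (n + 1)) - 1) ≤ 3 ^ (2 * (n + 1 + 1)) - 1 := by
      rw [show 2 * (n + 1 + 1) = 2 * (n + 1) + 2 by ring, pow_add]
      omega
    calc _ ≤ 81 * (4 * (2 * (n + 1))) ^ 3 := h1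
      _ ≤ 81 * (3 ^ (2 * n + 1) * (3 ^ (2 * (n + 1)) - 1)) := Nat.mul_le_mul_left _ ih
      _ = 3 ^ (2 * (n + 1) + 1) * (9 * (3 ^ (2 * (n + 1)) - 1)) := by ring
      _ ≤ _ := Nat.mul_le_mul_left _ h2

theorem big_C (n : ℕ) (hn : 3 ≤ n) : T (pC 3 n) ^ 3 < 4 * 3 ^ (n ^ 2) * pC 3 n := by
  induction n, hn using Nat.le_induction with
  | base =>
    rw [T_of (m := pC 3 3) (a := 10) (c := 455) (by decide) (by norm_num)]
    decide
  | succ n hn ih =>
    calc T (pC 3 (n + 1)) ^ 3 ≤ (T (pC 3 n) * (4 * (2 * (n + 1)))) ^ 3 := Nat.pow_le_pow_left (T_pC n) 3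
      _ = T (pC 3 n) ^ 3 * (4 * (2 * (n + 1))) ^ 3 := by ring
      _ < (4 * 3 ^ (n ^ 2) * pC 3 n) * (4 * (2 * (n + 1))) ^ 3 := Nat.mul_lt_mul_of_pos_right ih (by positivity)
      _ ≤ (4 * 3 ^ (n ^ 2) * pC 3 n) * (3 ^ (2 * n + 1) * (3 ^ (2 * (n + 1)) - 1)) :=
          Nat.mul_le_mul_left _ (pow_boundC n hn)
      _ = _ := by rw [pC, show (n + 1) ^ 2 = n ^ 2 + (2 * n + 1) by ring, pow_add 3 (n ^ 2) (2 * n + 1)]; ring

theorem pow_boundP (m : ℕ) (hm : 5 ≤ m) : (4 * (m + 1)) ^ 3 * 4 ≤ 3 ^ m * (3 ^ (m + 1) - 1) := by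
  induction m, hm using Nat.le_induction with
  | base => norm_num
  | succ n hn ih =>
    have h1 : (4 * (n + 1 + 1)) ^ 3 ≤ 9 * (4 * (n + 1)) ^ 3 := by
      have : (4 * (n + 1 + 1)) ≤ 2 * (4 * (n + 1)) := by omega
      calc (4 * (n + 1 + 1)) ^ 3 ≤ (2 * (4 * (n + 1))) ^ 3 := Nat.pow_le_pow_left this 3
        _ = 8 * (4 * (n + 1)) ^ 3 := by ring
        _ ≤ _ := Nat.mul_le_mul_right _ (by norm_num)
    have h2 : 3 * (3 ^ (n + 1) - 1) ≤ 3 ^ (n + 1 + 1) - 1 := by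
      rw [pow_succ 3 (n + 1)]
      omega
    calc _ ≤ 9 * (4 * (n + 1)) ^ 3 * 4 := Nat.mul_le_mul_right _ h1
      _ = 9 * ((4 * (n + 1)) ^ 3 * 4) := by ring
      _ ≤ 9 * (3 ^ n * (3 ^ (n + 1) - 1)) := Nat.mul_le_mul_left _ ih
      _ = 3 ^ (n + 1) * (3 * (3 ^ (n + 1) - 1)) := by ring
      _ ≤ _ := Nat.mul_le_mul_left _ h2

/-- the inequality -/
def Big (t : Typ) : Prop := T (t.P 3) ^ 3 < t.D 3 ^ 2 * (3 ^ t.N * t.P 3)

theorem big_of {t : Typ} {a c : ℕ} (h1 : t.P 3 = 2 ^ a * c) (h2 : c % 2 = 1)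
    (h3 : (2 ^ a) ^ 3 < t.D 3 ^ 2 * (3 ^ t.N * t.P 3)) : Big t := by
  unfold Big
  rw [T_of h1 h2]
  exact h3

theorem big_of_le {t : Typ} (hD : 0 < t.D 3) (h : T (t.P 3) ^ 3 < 3 ^ t.N * t.P 3) : Big t :=
  lt_of_lt_of_le h (Nat.le_mul_of_pos_left _ (pow_pos hD 2))

theorem big_plus_aux {m : ℕ} (hm : 6 ≤ m) : T ((3 ^ m - 1) * pC 3 (m - 1)) ^ 3 <
    3 ^ (m * (m - 1)) * ((3 ^ m - 1) * pC 3 (m - 1)) := by
  obtain ⟨n, rfl⟩ := Nat.exists_eq_add_of_le' (show 1 ≤ m by omega)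
  rw [Nat.add_sub_cancel, T_mul (three_sub_ne (by omega)) (pC_ne _)]
  have h1 := big_C n (by omega)
  have h2 := pow_boundP n (by omega)
  calc (T (3 ^ (n + 1) - 1) * T (pC 3 n)) ^ 3 ≤ (4 * (n + 1) * T (pC 3 n)) ^ 3 :=
        Nat.pow_le_pow_left (Nat.mul_le_mul_right _ (T_three_sub (by omega))) 3
    _ = (4 * (n + 1)) ^ 3 * T (pC 3 n) ^ 3 := by ring
    _ < (4 * (n + 1)) ^ 3 * (4 * 3 ^ (n ^ 2) * pC 3 n) := Nat.mul_lt_mul_of_pos_left h1 (by positivity)
    _ = ((4 * (n + 1)) ^ 3 * 4) * (3 ^ (n ^ 2) * pC 3 n) := by ring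
    _ ≤ (3 ^ n * (3 ^ (n + 1) - 1)) * (3 ^ (n ^ 2) * pC 3 n) := Nat.mul_le_mul_right _ h2
    _ = _ := by rw [show (n + 1) * n = n ^ 2 + n by ring, pow_add 3 (n ^ 2) n]; ring

theorem big_minus_aux {m : ℕ} (hm : 4 ≤ m) : T ((3 ^ m + 1) * pC 3 (m - 1)) ^ 3 <
    3 ^ (m * (m - 1)) * ((3 ^ m + 1) * pC 3 (m - 1)) := by
  obtain ⟨n, rfl⟩ := Nat.exists_eq_add_of_le' (show 1 ≤ m by omega)
  rw [Nat.add_sub_cancel, T_mul (by omega) (pC_ne _)]
  have h1 := big_C n (by omega)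
  have h2 : 4 ^ 3 * 4 ≤ 3 ^ n * (3 ^ (n + 1) + 1) := by
    have h3 : 3 ^ 3 ≤ 3 ^ n := Nat.pow_le_pow_right (by norm_num) (by omega)
    have h4 : 3 ^ 4 ≤ 3 ^ (n + 1) := Nat.pow_le_pow_right (by norm_num) (by omega)
    calc 4 ^ 3 * 4 ≤ 3 ^ 3 * (3 ^ 4 + 1) := by norm_num
      _ ≤ _ := Nat.mul_le_mul h3 (by omega)
  calc (T (3 ^ (n + 1) + 1) * T (pC 3 n)) ^ 3 ≤ (4 * T (pC 3 n)) ^ 3 :=
        Nat.pow_le_pow_left (Nat.mul_le_mul_right _ (T_three_add _)) 3
    _ = 4 ^ 3 * T (pC 3 n) ^ 3 := by ring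
    _ < 4 ^ 3 * (4 * 3 ^ (n ^ 2) * pC 3 n) := Nat.mul_lt_mul_of_pos_left h1 (by positivity)
    _ = (4 ^ 3 * 4) * (3 ^ (n ^ 2) * pC 3 n) := by ring
    _ ≤ (3 ^ n * (3 ^ (n + 1) + 1)) * (3 ^ (n ^ 2) * pC 3 n) := Nat.mul_le_mul_right _ h2
    _ = _ := by rw [show (n + 1) * n = n ^ 2 + n by ring, pow_add 3 (n ^ 2) n]; ring

/-- **`|t(3)|_2 ^ 3 < |t(3)|`** outside `U_3`, `S_2`. -/
theorem big {t : Typ} (hv : t.Valid 3 1) (h1 : t ≠ .U 3) (h2 : t ≠ .S 2) : Big t := by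
  have hD : 0 < t.D 3 := by
    have := D_pos Nat.prime_three hv
    rwa [pow_one] at this
  have hC : ∀ n, 3 ≤ n → T (pC 3 n) ^ 3 < 2 ^ 2 * (3 ^ (n ^ 2) * pC 3 n) := fun n hn => by
    have := big_C n hn
    calc _ < _ := this
      _ = _ := by ring
  cases t with
  | L n =>
    have hn := hv.2.1
    rcases Nat.lt_or_ge n 5 with h5 | h5
    · interval_cases n
      · have := hv.2.2 rfl
        norm_num at this
      · exact big_of (a := 4) (c := 13) (by decide) (by norm_num) (by decide)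
      · exact big_of (a := 8) (c := 65) (by decide) (by norm_num) (by decide)
    · refine big_of_le hD ?_
      obtain ⟨m, rfl⟩ := Nat.exists_eq_add_of_le' (show 1 ≤ n by omega)
      simp only [Typ.P, Typ.N]
      rw [s3_eq, Nat.add_sub_cancel]
      exact big_A m (by omega)
  | S n =>
    have hn := hv.2.1
    have hn3 : 3 ≤ n := by
      by_contra hlt
      have : n = 2 := by omega
      exact h2 (by rw [this])
    exact hC n hn3
  | U n =>
    have hn := hv.2.1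
    rcases Nat.lt_or_ge n 5 with h5 | h5
    · interval_cases n
      · exact absurd rfl h1
      · exact big_of (a := 9) (c := 35) (by decide) (by norm_num) (by decide)
    · refine big_of_le hD ?_
      obtain ⟨m, rfl⟩ := Nat.exists_eq_add_of_le' (show 1 ≤ n by omega)
      simp only [Typ.P, Typ.N]
      rw [s3_eq, Nat.add_sub_cancel]
      exact big_U m (by omega)
  | OO n => exact hC n hv.2.1
  | OP n =>
    have hn := hv.2
    rcases Nat.lt_or_ge n 6 with h5 | h5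
    · interval_cases n
      · exact big_of (a := 14) (c := 2275) (by decide) (by norm_num) (by decide)
      · exact big_of (a := 16) (c := 11286275) (by decide) (by norm_num) (by decide)
    · exact big_of_le hD (big_plus_aux h5)
  | OM n => exact big_of_le hD (big_minus_aux hv.2)
  | G2 => exact big_of (a := 6) (c := 91) (by decide) (by norm_num) (by decide)
  | F4 => exact big_of (a := 15) (c := 619625825) (by decide) (by norm_num) (by decide)
  | E6 => exact big_of (a := 17) (c := 737826267002825) (by decide) (by norm_num) (by decide)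
  | E7 => exact big_of (a := 24) (c := 132417322035756139195889075) (by decide) (by norm_num) (by decide)
  | E8 => exact big_of (a := 30) (c := 9758905310600058839128552368400848933484582768028125) (by decide) (by norm_num) (by decide)
  | TE6 => exact big_of (a := 19) (c := 185999899774325) (by decide) (by norm_num) (by decide)
  | TD4 => exact big_of (a := 6) (c := 604513) (by decide) (by norm_num) (by decide)
  | SZ => exact absurd hv.1 (by norm_num)
  | TF4 => exact absurd hv.1 (by norm_num)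
  | RG => exact absurd hv.2.1 (by norm_num)

end Cfsg.Agent.NotCT

end

-- merged: Cfsg.Agent.NotCT.Two
section

/-!
# Characteristic 2 against `L_2(q)`, `q` odd, `²G_2(q)` and the field with 3 elements (helper77)

* `no_three` : `t(2 ^ k) ≇ t'(3)`, except `U_4(2)`, `S_2(3)`;
* `no_ltwo` : `t(2 ^ k) ≇ L_2(q)`, `q` odd, except `L_2(4)`, `L_2(5)` and `L_3(2)`, `L_2(7)`;
* `no_ree` : `t(2 ^ k) ≇ ²G_2(q)`.
-/

set_option autoImplicit false

namespace Cfsg.Agent.NotCT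

open Cfsg

variable {X : Type*} {t s : Typ} {k j r : ℕ}

theorem card_ne_zero {p : ℕ} (hp : p.Prime) (hv : t.Valid p k) (h : HasOrd t (p ^ k) X) : Nat.card X ≠ 0 := by
  intro h0
  have h1 : t.D (p ^ k) * Nat.card X = (p ^ k) ^ t.N * t.P (p ^ k) := h
  rw [h0, mul_zero] at h1
  have h2 : t.P (p ^ k) = 0 := by
    rcases Nat.mul_eq_zero.1 h1.symm with h2 | h2
    · exact absurd h2 (pow_ne_zero _ (pow_pos hp.pos k).ne')
    · exact h2
  have h3 := cop_P hp hv
  rw [h2] at h3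
  exact hp.one_lt.ne' ((Nat.coprime_zero_right _).1 h3)

/-- the 2-part of the order -/
theorem T_card_typ (hv : t.Valid 2 k) (h : HasOrd t (2 ^ k) X) : T (Nat.card X) = 2 ^ (k * t.N) :=
  T_card (card_ne_zero Nat.prime_two hv h) (dvd_card Nat.prime_two hv h) (not_dvd_card Nat.prime_two hv h)

theorem card_le_T (hv : t.Valid 2 k) (h : HasOrd t (2 ^ k) X) : Nat.card X ≤ T (Nat.card X) ^ 3 := by
  rw [T_card_typ hv h]
  exact card_le_three Nat.prime_two hv h

theorem T_of_dvd_four {d : ℕ} (h : d ∣ 4) : T d = d := by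
  have h1 : d ≤ 4 := Nat.le_of_dvd (by norm_num) h
  interval_cases d
  · norm_num at h
  · exact T_of (a := 0) (c := 1) (by norm_num) (by norm_num)
  · exact T_of (a := 1) (c := 1) (by norm_num) (by norm_num)
  · norm_num at h
  · exact T_of (a := 2) (c := 1) (by norm_num) (by norm_num)

theorem D_three_dvd (hv : s.Valid 3 1) : s.D 3 ∣ 4 := by
  cases s with
  | L n => exact (Nat.gcd_dvd_right _ _).trans (by norm_num)
  | S n => exact (Nat.gcd_dvd_right _ _).trans (by norm_num)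
  | U n => exact (Nat.gcd_dvd_right _ _).trans (by norm_num)
  | OO n => exact (Nat.gcd_dvd_right _ _).trans (by norm_num)
  | OP n => exact Nat.gcd_dvd_left _ _
  | OM n => exact Nat.gcd_dvd_left _ _
  | SZ => exact absurd hv.1 (by norm_num)
  | TF4 => exact absurd hv.1 (by norm_num)
  | RG => exact absurd hv.2.1 (by norm_num)
  | _ => decide

/-- **`t(2 ^ k) ≇ t'(3)`** -/
theorem no_three (hv : t.Valid 2 k) (h : HasOrd t (2 ^ k) X) (hv' : s.Valid 3 1) (h' : HasOrd s 3 X) :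
    s = .S 2 ∧ t = .U 4 ∧ k = 1 := by
  by_cases h1 : s = .U 3
  · exfalso
    subst h1
    have h2 : Typ.D (.U 3) (3 ^ 1) * Nat.card X = (3 ^ 1) ^ Typ.N (.U 3) * Typ.P (.U 3) (3 ^ 1) := by rw [pow_one]; exact h'
    have h3 : Nat.card X = 6048 := by
      rw [show Typ.D (.U 3) (3 ^ 1) = 1 by decide, one_mul] at h2
      exact h2.trans (by decide)
    have h4 := typ_mem Nat.prime_two hv h h3 (a := 5) (by norm_num) (by norm_num) (ex := []) (by decide +kernel)
    simp at h4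
  by_cases h2 : s = .S 2
  · subst h2
    have h2 : Typ.D (.S 2) (3 ^ 1) * Nat.card X = (3 ^ 1) ^ Typ.N (.S 2) * Typ.P (.S 2) (3 ^ 1) := by rw [pow_one]; exact h'
    have h3 : Nat.card X = 25920 := by
      rw [show Typ.D (.S 2) (3 ^ 1) = 2 by decide, show (3 ^ 1) ^ (Typ.N (.S 2)) * Typ.P (.S 2) (3 ^ 1) = 2 * 25920 by
        decide] at h2
      exact Nat.eq_of_mul_eq_mul_left (by norm_num) h2
    have h4 := typ_mem Nat.prime_two hv h h3 (a := 6) (by norm_num) (by norm_num) (ex := [(.U 4, 1)])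
      (by decide +kernel)
    simp at h4
    exact ⟨rfl, h4.1, h4.2⟩
  · exfalso
    have h3 : s.D (3 ^ 1) * Nat.card X = (3 ^ 1) ^ s.N * s.P (3 ^ 1) := by rw [pow_one]; exact h'
    have h4 := card_ne_zero Nat.prime_two hv h
    have h5 := card_le_T hv h
    have h6 := big hv' h1 h2
    have h7 := D_pos Nat.prime_three hv'
    have h8 := T_of_dvd_four (D_three_dvd hv')
    rw [pow_one] at h3 h7
    have hP : s.P 3 ≠ 0 := by
      intro h0
      rw [h0, mul_zero] at h3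
      rcases Nat.mul_eq_zero.1 h3 with h9 | h9
      · exact h7.ne' h9
      · exact h4 h9
    have h9 : s.D 3 * T (Nat.card X) = T (s.P 3) := by
      have h10 := congrArg T h3
      rw [T_mul h7.ne' h4, T_mul (pow_ne_zero _ (by norm_num)) hP, h8, T_odd (Odd.pow (by decide)), one_mul] at h10
      exact h10
    unfold Big at h6
    rw [← h9, ← h3] at h6
    have h10 : s.D 3 ^ 3 * T (Nat.card X) ^ 3 < s.D 3 ^ 3 * Nat.card X := by
      calc _ = (s.D 3 * T (Nat.card X)) ^ 3 := by ring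
        _ < _ := h6
        _ = _ := by ring
    exact absurd (Nat.lt_of_mul_lt_mul_left h10) (by omega)

/-- `|X| ^ 3 ≤ |X|_p ^ 8` outside `L_2`, `²G_2` -/
theorem card_le_eight {p : ℕ} (hp : p.Prime) (hv : t.Valid p k) (h : HasOrd t (p ^ k) X) (h2 : t ≠ .L 2)
    (h5 : t ≠ .RG) : Nat.card X ^ 3 ≤ (p ^ (k * t.N)) ^ 8 := by
  have h3 : t = .L 3 ∨ t = .U 3 → Nat.card X ^ 3 ≤ (p ^ (k * t.N)) ^ 8 := by
    intro h3
    have h6 := card_le hp hv h
    have hN : t.N + t.e = 8 := by rcases h3 with rfl | rfl <;> rfl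
    have hN' : t.N = 3 := by rcases h3 with rfl | rfl <;> rfl
    rw [hN] at h6
    rw [hN', pow_mul]
    calc Nat.card X ^ 3 ≤ ((p ^ k) ^ 8) ^ 3 := Nat.pow_le_pow_left h6 3
      _ = _ := by ring
  by_cases h6 : t = .L 3
  · exact h3 (Or.inl h6)
  by_cases h7 : t = .U 3
  · exact h3 (Or.inr h7)
  have h8 := card_le_five hp hv h h2 h6 h7 h5
  have h9 : (Nat.card X ^ 3) ^ 2 ≤ ((p ^ (k * t.N)) ^ 8) ^ 2 := by
    calc (Nat.card X ^ 3) ^ 2 = (Nat.card X ^ 2) ^ 3 := by ring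
      _ ≤ ((p ^ (k * t.N)) ^ 5) ^ 3 := Nat.pow_le_pow_left h8 3
      _ = (p ^ (k * t.N)) ^ 15 := by ring
      _ ≤ (p ^ (k * t.N)) ^ 16 := Nat.pow_le_pow_right (pow_pos hp.pos _) (by norm_num)
      _ = _ := by ring
  exact (Nat.pow_le_pow_iff_left (by norm_num)).1 h9

theorem no_ree (hv : t.Valid 2 k) (h : HasOrd t (2 ^ k) X) (hv' : Typ.Valid 3 .RG j) (h' : HasOrd .RG (3 ^ j) X) :
    False := by
  obtain ⟨-, hj3, hj2⟩ := hv'
  have hv'' : Typ.Valid 3 .RG j := ⟨rfl, hj3, hj2⟩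
  have h1 : Typ.D .RG (3 ^ j) * Nat.card X = (3 ^ j) ^ Typ.N .RG * Typ.P .RG (3 ^ j) := h'
  have h2 : Nat.card X = (3 ^ j) ^ 3 * ((3 ^ j - 1) * ((3 ^ j) ^ 3 + 1)) := by
    simpa only [Typ.D, Typ.N, Typ.P, _root_.one_mul] using h1
  have h3 : 3 ^ j % 8 = 3 := by
    obtain ⟨i, rfl⟩ : ∃ i, j = 2 * i + 1 := ⟨j / 2, by omega⟩
    rw [pow_add, pow_mul, Nat.mul_mod, Nat.pow_mod]
    norm_num
  obtain ⟨c, hc⟩ : ∃ c, 3 ^ j = 8 * c + 3 := ⟨3 ^ j / 8, by omega⟩
  have h27 : 27 ≤ 3 ^ j := by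
    calc 27 = 3 ^ 3 := by norm_num
      _ ≤ _ := Nat.pow_le_pow_right (by norm_num) hj3
  have h4 : T (Nat.card X) = 8 := by
    have h5 : (3 ^ j) ^ 3 + 1 = 4 * (2 * (64 * c ^ 3 + 72 * c ^ 2 + 27 * c + 3) + 1) := by rw [hc]; ring
    have h6 : 3 ^ j - 1 = 2 * (4 * c + 1) := by (clear * - hc; omega)
    rw [h2, h6, h5]
    have h7 : (3 ^ j) ^ 3 % 2 = 1 := by rw [Nat.pow_mod, show 3 ^ j % 2 = 1 by (clear * - hc; omega)]
    refine (T_of (a := 3) (c := (3 ^ j) ^ 3 * ((4 * c + 1) * (2 * (64 * c ^ 3 + 72 * c ^ 2 + 27 * c + 3) + 1)))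
      (by ring) ?_).trans (by norm_num)
    rw [Nat.mul_mod, h7, Nat.mul_mod (4 * c + 1), show (4 * c + 1) % 2 = 1 by omega, Nat.mul_add_mod]
  have h5 := card_le_T hv h
  rw [h4, h2] at h5
  have h6 : 27 ^ 3 * (1 * 1) ≤ (3 ^ j) ^ 3 * ((3 ^ j - 1) * ((3 ^ j) ^ 3 + 1)) :=
    Nat.mul_le_mul (Nat.pow_le_pow_left h27 3) (Nat.mul_le_mul (by omega) (by omega))
  norm_num only [] at h6 h5
  omega

theorem ltwo_card {q : ℕ} (hq : Odd q) (h5 : 5 ≤ q) {n : ℕ} (hn : 2 * n = q * (q ^ 2 - 1)) (h3 : n ≤ T n ^ 3) :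
    ∃ a, 2 ≤ a ∧ T n = 2 ^ a ∧ (q = 2 ^ a + 1 ∨ q + 1 = 2 ^ a) := by
  obtain ⟨c, rfl⟩ := hq
  have h1 : (2 * c + 1) ^ 2 - 1 = 4 * (c * (c + 1)) := by
    have : (2 * c + 1) ^ 2 = 4 * (c * (c + 1)) + 1 := by ring
    omega
  rw [h1] at hn
  have hn' : n = (2 * c + 1) * (2 * (c * (c + 1))) := by
    apply Nat.eq_of_mul_eq_mul_left (show 0 < 2 by norm_num)
    rw [hn]
    ring
  rcases Nat.even_or_odd c with he | ho
  · -- `q ≡ 1 mod 4`
    obtain ⟨a, u, hu, hcu⟩ := Nat.exists_eq_two_pow_mul_odd (show c ≠ 0 by omega)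
    have ha : 1 ≤ a := by
      by_contra h0
      have : a = 0 := by omega
      rw [this, pow_zero, one_mul] at hcu
      rw [hcu] at he
      exact (Nat.not_even_iff_odd.2 hu) he
    have hodd : Odd ((2 * c + 1) * (u * (c + 1))) :=
      (odd_two_mul_add_one c).mul (hu.mul he.add_one)
    have hT : T n = 2 ^ (a + 1) := by
      refine T_of (c := (2 * c + 1) * (u * (c + 1))) ?_ (Nat.odd_iff.1 hodd)
      rw [hn']
      nth_rewrite 2 [hcu]
      ring
    refine ⟨a + 1, by omega, hT, Or.inl ?_⟩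
    have hu1 : u = 1 := by
      by_contra hne
      have hu3 : 3 ≤ u := by
        rcases hu with ⟨v, hv⟩
        omega
      rw [hT, hn'] at h3
      -- `2 ^ (a + 1) = 2 c / u`
      have h4 : 3 * 2 ^ a ≤ c := by
        calc 3 * 2 ^ a ≤ u * 2 ^ a := Nat.mul_le_mul_right _ hu3
          _ = c := by rw [hcu]; ring
      have h5 : 27 * (2 ^ (a + 1)) ^ 3 ≤ (2 * c) ^ 3 := by
        calc 27 * (2 ^ (a + 1)) ^ 3 = (2 * (3 * 2 ^ a)) ^ 3 := by ring
          _ ≤ _ := Nat.pow_le_pow_left (Nat.mul_le_mul_left _ h4) 3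
      nlinarith [mul_pos (show 0 < c by omega) (show 0 < c by omega)]
    rw [hu1, mul_one] at hcu
    rw [pow_succ]
    omega
  · -- `q ≡ 3 mod 4`
    obtain ⟨a, u, hu, hcu⟩ := Nat.exists_eq_two_pow_mul_odd (show c + 1 ≠ 0 by omega)
    have ha : 1 ≤ a := by
      by_contra h0
      have : a = 0 := by omega
      rw [this, pow_zero, one_mul] at hcu
      have h1 := ho.add_one
      rw [hcu] at h1
      exact (Nat.not_even_iff_odd.2 hu) h1
    have hodd : Odd ((2 * c + 1) * (c * u)) :=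
      (odd_two_mul_add_one c).mul (ho.mul hu)
    have hT : T n = 2 ^ (a + 1) := by
      refine T_of (c := (2 * c + 1) * (c * u)) ?_ (Nat.odd_iff.1 hodd)
      rw [hn', hcu]
      ring
    refine ⟨a + 1, by omega, hT, Or.inr ?_⟩
    have hu1 : u = 1 := by
      by_contra hne
      have hu3 : 3 ≤ u := by
        rcases hu with ⟨v, hv⟩
        omega
      rw [hT, hn'] at h3
      have h4 : 3 * 2 ^ a ≤ c + 1 := by
        calc 3 * 2 ^ a ≤ u * 2 ^ a := Nat.mul_le_mul_right _ hu3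
          _ = c + 1 := by rw [hcu]; ring
      have h5 : 27 * (2 ^ (a + 1)) ^ 3 ≤ (2 * (c + 1)) ^ 3 := by
        calc 27 * (2 ^ (a + 1)) ^ 3 = (2 * (3 * 2 ^ a)) ^ 3 := by ring
          _ ≤ _ := Nat.pow_le_pow_left (Nat.mul_le_mul_left _ h4) 3
      obtain ⟨b, rfl⟩ := Nat.exists_eq_add_of_le' (show 2 ≤ c by omega)
      nlinarith only [h1, h3, h5]
    rw [hu1, mul_one] at hcu
    rw [pow_succ]
    omega

theorem gcd_two_of_odd {q : ℕ} (hq : Odd q) : Nat.gcd 2 (q - 1) = 2 := by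
  obtain ⟨c, rfl⟩ := hq
  rw [Nat.add_sub_cancel]
  exact Nat.gcd_eq_left (Dvd.intro _ rfl)

theorem two_card_ltwo (hr : r.Prime) (hr2 : r ≠ 2) (h' : HasOrd (.L 2) (r ^ j) X) :
    2 * Nat.card X = r ^ j * ((r ^ j) ^ 2 - 1) := by
  have h1 : Typ.D (.L 2) (r ^ j) * Nat.card X = (r ^ j) ^ Typ.N (.L 2) * Typ.P (.L 2) (r ^ j) := h'
  have hq : Odd (r ^ j) := (hr.odd_of_ne_two hr2).pow
  rw [show Typ.D (.L 2) (r ^ j) = 2 from gcd_two_of_odd hq] at h1
  simpa only [Typ.N, Typ.P, pA, _root_.Nat.add_one_sub_one, _root_.mul_one, _root_.Order.lt_two_iff, _root_.zero_le, _root_.Nat.div_self, _root_.pow_one, _root_.zero_add, _root_.one_mul] using h1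

/-- **`t(2 ^ k) ≇ L_2(q)`**, `q` odd -/
theorem no_ltwo (hv : t.Valid 2 k) (h : HasOrd t (2 ^ k) X) (hr : r.Prime) (hr2 : r ≠ 2)
    (hv' : Typ.Valid r (.L 2) j) (h' : HasOrd (.L 2) (r ^ j) X) :
    (r ^ j = 5 ∧ t = .L 2 ∧ k = 2) ∨ (r ^ j = 7 ∧ t = .L 3 ∧ k = 1) := by
  have h1 := two_card_ltwo hr hr2 h'
  have hq : Odd (r ^ j) := (hr.odd_of_ne_two hr2).pow
  have h4 := hv'.2.2 rfl
  generalize r ^ j = q at h1 hq h4
  have h5 : 5 ≤ q := by
    rcases hq with ⟨c, rfl⟩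
    omega
  obtain ⟨a, ha, hT, hqa⟩ := ltwo_card hq h5 h1 (card_le_T hv h)
  have hka : k * t.N = a := Nat.pow_right_injective (le_refl 2) ((T_card_typ hv h).symm.trans hT)
  have h2a : 4 ≤ 2 ^ a := by
    calc 4 = 2 ^ 2 := by norm_num
      _ ≤ _ := Nat.pow_le_pow_right (by norm_num) ha
  by_cases ht : t = .L 2
  · -- `L_2(2 ^ a)`
    subst ht
    have h6 : Typ.D (.L 2) (2 ^ k) * Nat.card X = (2 ^ k) ^ Typ.N (.L 2) * Typ.P (.L 2) (2 ^ k) := h
    have h7 : k = a := by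
      rw [← hka]
      simp [Typ.N]
    subst h7
    have h8 : Nat.card X = 2 ^ k * ((2 ^ k) ^ 2 - 1) := by
      have h9 : Nat.gcd 2 (2 ^ k - 1) = 1 := by
        rw [← Nat.coprime_iff_gcd_eq_one]
        exact cop_pred Nat.prime_two (dvd_pow_self 2 (by omega)) (by positivity)
      rw [show Typ.D (.L 2) (2 ^ k) = 1 from h9, one_mul] at h6
      simpa only [Typ.N, Typ.P, pA, _root_.Nat.add_one_sub_one, _root_.mul_one, _root_.Order.lt_two_iff, _root_.zero_le, _root_.Nat.div_self, _root_.pow_one, _root_.zero_add, _root_.one_mul] using h6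
    left
    rw [h8] at h1
    obtain ⟨b, hb⟩ := Nat.exists_eq_add_of_le' h2a
    rw [hb] at h1 hqa
    have h10 : (b + 4) ^ 2 - 1 = (b + 3) * (b + 5) := by
      have : (b + 4) ^ 2 = (b + 3) * (b + 5) + 1 := by ring
      omega
    rw [h10] at h1
    rcases hqa with rfl | hqa
    · have h11 : (b + 4 + 1) ^ 2 - 1 = (b + 4) * (b + 6) := by
        have : (b + 4 + 1) ^ 2 = (b + 4) * (b + 6) + 1 := by ring
        omega
      rw [h11] at h1
      have h12 : b = 0 := by nlinarith only [h10, h1]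
      subst h12
      have h13 : k = 2 := Nat.pow_right_injective (le_refl 2) (show 2 ^ k = 2 ^ 2 by rw [hb])
      exact ⟨by norm_num, rfl, h13⟩
    · exfalso
      have h12 : q = b + 3 := by omega
      subst h12
      have h11 : (b + 3) ^ 2 - 1 = (b + 2) * (b + 4) := by
        have : (b + 3) ^ 2 = (b + 2) * (b + 4) + 1 := by ring
        omega
      rw [h11] at h1
      nlinarith only [h10, h1]
  · have h8 := card_le_eight Nat.prime_two hv h ht (by
      rintro rfl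
      exact absurd hv.1 (by norm_num))
    rw [hka] at h8
    have ha4 : a ≤ 4 := by
      by_contra hlt
      have h32 : 32 ≤ 2 ^ a := by
        calc 32 = 2 ^ 5 := by norm_num
          _ ≤ _ := Nat.pow_le_pow_right (by norm_num) (by omega)
      generalize hA : 2 ^ a = A at *
      have h9 : 14 * A ^ 3 ≤ 32 * Nat.card X := by
        have h10 : 14 * A ^ 3 ≤ 16 * (2 * Nat.card X) := by
          rw [h1]
          have hqA : A - 1 ≤ q := by omega
          obtain ⟨B, rfl⟩ := Nat.exists_eq_add_of_le' (show 32 ≤ A by omega)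
          have hq1 : B + 31 ≤ q := by omega
          obtain ⟨C, rfl⟩ := Nat.exists_eq_add_of_le' hq1
          have h11 : (C + (B + 31)) ^ 2 - 1 = (C + (B + 30)) * (C + (B + 32)) := by
            have : (C + (B + 31)) ^ 2 = (C + (B + 30)) * (C + (B + 32)) + 1 := by ring
            omega
          rw [h11]
          have h12 : 14 * (B + 32) ^ 3 ≤ 16 * ((B + 31) * ((B + 30) * (B + 32))) := by
            have h13 : 16 * ((B + 31) * ((B + 30) * (B + 32))) =
                14 * (B + 32) ^ 3 + (B + 32) * (2 * B ^ 2 + 80 * B + 544) := by ring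
            rw [h13]
            exact Nat.le_add_right _ _
          refine h12.trans (Nat.mul_le_mul_left _ (Nat.mul_le_mul (by omega) (Nat.mul_le_mul (by omega) (by omega))))
        omega
      have h10 : (14 * A ^ 3) ^ 3 ≤ (32 * Nat.card X) ^ 3 := Nat.pow_le_pow_left h9 3
      have h11 : 2744 * A ^ 9 ≤ 32768 * A ^ 8 := by
        calc 2744 * A ^ 9 = (14 * A ^ 3) ^ 3 := by ring
          _ ≤ (32 * Nat.card X) ^ 3 := h10
          _ = 32768 * Nat.card X ^ 3 := by ring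
          _ ≤ _ := Nat.mul_le_mul_left _ h8
      have h12 : A ^ 9 = A * A ^ 8 := by ring
      have h13 : 0 < A ^ 8 := pow_pos (by omega) 8
      rw [h12] at h11
      nlinarith only [h8, h32, h10, h13]
    have key : ∀ {n0 b : ℕ}, 2 * n0 = q * (q ^ 2 - 1) → Nat.card X = n0 := fun h9 => by omega
    interval_cases a
    · -- `q = 5`
      have hq5 : q = 5 := by omega
      subst hq5
      have h9 := typ_mem Nat.prime_two hv h (n0 := 60) (by omega) (a := 2) (by norm_num) (by norm_num)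
        (ex := [(.L 2, 2)]) (by decide +kernel)
      simp at h9
      exact absurd h9.1 ht
    · have hq5 : q = 7 ∨ q = 9 := by omega
      rcases hq5 with rfl | rfl
      · right
        have h9 := typ_mem Nat.prime_two hv h (n0 := 168) (by omega) (a := 3) (by norm_num) (by norm_num)
          (ex := [(.L 3, 1)]) (by decide +kernel)
        simp at h9
        exact ⟨rfl, h9⟩
      · exfalso
        have h9 := typ_mem Nat.prime_two hv h (n0 := 360) (by omega) (a := 3) (by norm_num) (by norm_num)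
          (ex := []) (by decide +kernel)
        simp at h9
    · have hq5 : q = 17 ∨ q = 15 := by omega
      exfalso
      rcases hq5 with rfl | rfl
      · have h9 := typ_mem Nat.prime_two hv h (n0 := 2448) (by omega) (a := 4) (by norm_num) (by norm_num)
          (ex := []) (by decide +kernel)
        simp at h9
      · have h9 := typ_mem Nat.prime_two hv h (n0 := 1680) (by omega) (a := 4) (by norm_num) (by norm_num)
          (ex := []) (by decide +kernel)
        simp at h9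

end Cfsg.Agent.NotCT

end

private theorem dce_b73d6048c603 : _root_.True := by
  try have : _root_.True := by simp only [_root_.Cfsg.Agent.NotCT.Typ.D.eq_15]
  try have : _root_.True := by simp only [_root_.Cfsg.Agent.NotCT.Typ.N.eq_1]
  try have : _root_.True := by simp only [_root_.Cfsg.Agent.NotCT.Typ.e.eq_2]
  try have : _root_.True := by simp only [_root_.Cfsg.Agent.NotCT.s3.eq_1]
  try have : _root_.True := by simp only [_root_.Cfsg.Agent.NotCT.Typ.Valid.eq_3]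
  try have : _root_.True := by simp only [_root_.Cfsg.Agent.NotCT.s3.eq_def]
  try have : _root_.True := by simp only [_root_.Cfsg.Agent.NotCT.Typ.P.eq_2]
  try have : _root_.True := by simp only [_root_.Cfsg.Agent.NotCT.Typ.Valid.eq_11]
  try have : _root_.True := by simp only [_root_.Cfsg.Agent.NotCT.Typ.Valid.eq_14]
  try have : _root_.True := by simp only [_root_.Cfsg.Agent.NotCT.Typ.P.eq_5]
  try have : _root_.True := by simp only [_root_.Cfsg.Agent.NotCT.s3.eq_2]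
  try have : _root_.True := by simp only [_root_.Cfsg.Agent.NotCT.Typ.e.eq_6]
  try have : _root_.True := by simp only [_root_.Cfsg.Agent.NotCT.Typ.N.eq_11]
  try have : _root_.True := by simp only [_root_.Cfsg.Agent.NotCT.Typ.P.eq_12]
  try have : _root_.True := by simp only [_root_.Cfsg.Agent.NotCT.Typ.e.eq_4]
  try have : _root_.True := by simp only [_root_.Cfsg.Agent.NotCT.Typ.e.eq_8]
  try have : _root_.True := by simp only [_root_.Cfsg.Agent.NotCT.Typ.D.eq_11]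
  try have : _root_.True := by simp only [_root_.Cfsg.Agent.NotCT.Typ.P.eq_6]
  try have : _root_.True := by simp only [_root_.Cfsg.Agent.NotCT.Typ.D.eq_13]
  try have : _root_.True := by simp only [_root_.Cfsg.Agent.NotCT.Typ.Valid.eq_1]
  try have : _root_.True := by simp only [_root_.Cfsg.Agent.NotCT.Typ.e.eq_12]
  try have : _root_.True := by simp only [_root_.Cfsg.Agent.NotCT.sA.eq_1]
  try have : _root_.True := by simp only [_root_.Cfsg.Agent.NotCT.Typ.N.eq_13]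
  try have : _root_.True := by simp only [_root_.Cfsg.Agent.NotCT.Typ.P.eq_4]
  try have : _root_.True := by simp only [_root_.Cfsg.Agent.NotCT.pU.eq_2]
  try have : _root_.True := by simp only [_root_.Cfsg.Agent.NotCT.Typ.P.eq_8]
  try have : _root_.True := by simp only [_root_.Cfsg.Agent.NotCT.Typ.Valid.eq_15]
  try have : _root_.True := by simp only [_root_.Cfsg.Agent.NotCT.pC.eq_2]
  try have : _root_.True := by simp only [_root_.Cfsg.Agent.NotCT.Typ.e.eq_7]
  try have : _root_.True := by simp only [_root_.Cfsg.Agent.NotCT.Typ.e.eq_9]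
  try have : _root_.True := by simp only [_root_.Cfsg.Agent.NotCT.pC.eq_def]
  try have : _root_.True := by simp only [_root_.Cfsg.Agent.NotCT.Typ.D.eq_1]
  try have : _root_.True := by simp only [_root_.Cfsg.Agent.NotCT.Typ.N.eq_15]
  try have : _root_.True := by simp only [_root_.Cfsg.Agent.NotCT.Typ.Valid.eq_13]
  try have : _root_.True := by simp only [_root_.Cfsg.Agent.NotCT.Typ.N.eq_7]
  try have : _root_.True := by simp only [_root_.Cfsg.Agent.NotCT.Typ.Valid.eq_16]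
  try have : _root_.True := by simp only [_root_.Cfsg.Agent.NotCT.Typ.D.eq_5]
  try have : _root_.True := by simp only [_root_.Cfsg.Agent.NotCT.pC.eq_1]
  try have : _root_.True := by simp only [_root_.Cfsg.Agent.NotCT.Typ.N.eq_9]
  try have : _root_.True := by simp only [_root_.Cfsg.Agent.NotCT.Typ.N.eq_10]
  try have : _root_.True := by simp only [_root_.Cfsg.Agent.NotCT.Typ.D.eq_14]
  try have : _root_.True := by simp only [_root_.Cfsg.Agent.NotCT.Typ.P.eq_16]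
  try have : _root_.True := by simp only [_root_.Cfsg.Agent.NotCT.Typ.N.eq_14]
  try have : _root_.True := by simp only [_root_.Cfsg.Agent.NotCT.Typ.D.eq_10]
  try have : _root_.True := by simp only [_root_.Cfsg.Agent.NotCT.Typ.e.eq_3]
  try have : _root_.True := by simp only [_root_.Cfsg.Agent.NotCT.Typ.D.eq_3]
  try have : _root_.True := by simp only [_root_.Cfsg.Agent.NotCT.Typ.e.eq_10]
  try have : _root_.True := by simp only [_root_.Cfsg.Agent.NotCT.Typ.e.eq_14]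
  try have : _root_.True := by simp only [_root_.Cfsg.Agent.NotCT.Typ.N.eq_3]
  try have : _root_.True := by simp only [_root_.Cfsg.Agent.NotCT.Typ.P.eq_1]
  try have : _root_.True := by simp only [_root_.Cfsg.Agent.NotCT.Typ.Valid.eq_6]
  try have : _root_.True := by simp only [_root_.Cfsg.Agent.NotCT.Typ.e.eq_5]
  try have : _root_.True := by simp only [_root_.Cfsg.Agent.NotCT.Typ.Valid.eq_12]
  try have : _root_.True := by simp only [_root_.Cfsg.Agent.NotCT.Typ.e.eq_1]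
  try have : _root_.True := by simp only [_root_.Cfsg.Agent.NotCT.Typ.N.eq_2]
  try have : _root_.True := by simp only [_root_.Cfsg.Agent.NotCT.Typ.D.eq_7]
  try have : _root_.True := by simp only [_root_.Cfsg.Agent.NotCT.Typ.D.eq_9]
  try have : _root_.True := by simp only [_root_.Cfsg.Agent.NotCT.Typ.N.eq_5]
  try have : _root_.True := by simp only [_root_.Cfsg.Agent.NotCT.Typ.Valid.eq_2]
  try have : _root_.True := by simp only [_root_.Cfsg.Agent.NotCT.Typ.P.eq_11]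
  try have : _root_.True := by simp only [_root_.Cfsg.Agent.NotCT.Typ.N.eq_12]
  try have : _root_.True := by simp only [_root_.Cfsg.Agent.NotCT.Typ.D.eq_12]
  try have : _root_.True := by simp only [_root_.Cfsg.Agent.NotCT.pA.eq_def]
  try have : _root_.True := by simp only [_root_.Cfsg.Agent.NotCT.sA.eq_2]
  try have : _root_.True := by simp only [_root_.Cfsg.Agent.NotCT.pU.eq_1]
  try have : _root_.True := by simp only [_root_.Cfsg.Agent.NotCT.Typ.e.eq_13]
  try have : _root_.True := by simp only [_root_.Cfsg.Agent.NotCT.Typ.D.eq_4]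
  try have : _root_.True := by simp only [_root_.Cfsg.Agent.NotCT.Typ.N.eq_6]
  try have : _root_.True := by simp only [_root_.Cfsg.Agent.NotCT.Typ.e.eq_11]
  try have : _root_.True := by simp only [_root_.Cfsg.Agent.NotCT.Typ.D.eq_8]
  try have : _root_.True := by simp only [_root_.Cfsg.Agent.NotCT.Typ.P.eq_13]
  try have : _root_.True := by simp only [_root_.Cfsg.Agent.NotCT.Typ.D.eq_6]
  try have : _root_.True := by simp only [_root_.Cfsg.Agent.NotCT.Typ.N.eq_4]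
  try have : _root_.True := by simp only [_root_.Cfsg.Agent.NotCT.Typ.N.eq_8]
  try have : _root_.True := by simp only [_root_.Cfsg.Agent.NotCT.Typ.Valid.eq_8]
  try have : _root_.True := by simp only [_root_.Cfsg.Agent.NotCT.Typ.P.eq_15]
  try have : _root_.True := by simp only [_root_.Cfsg.Agent.NotCT.Typ.Valid.eq_4]
  try have : _root_.True := by simp only [_root_.Cfsg.Agent.NotCT.Typ.P.eq_9]
  try have : _root_.True := by simp only [_root_.Cfsg.Agent.NotCT.Typ.P.eq_7]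
  try have : _root_.True := by simp only [_root_.Cfsg.Agent.NotCT.Typ.Valid.eq_10]
  try have : _root_.True := by simp only [_root_.Cfsg.Agent.NotCT.Typ.D.eq_2]
  try have : _root_.True := by simp only [_root_.Cfsg.Agent.NotCT.Typ.e.eq_15]
  try have : _root_.True := by simp only [_root_.Cfsg.Agent.NotCT.Typ.Valid.eq_9]
  try have : _root_.True := by simp only [_root_.Cfsg.Agent.NotCT.pA.eq_2]
  try have : _root_.True := by simp only [_root_.Cfsg.Agent.NotCT.Typ.P.eq_10]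
  try have : _root_.True := by simp only [_root_.Cfsg.Agent.NotCT.Typ.N.eq_16]
  try have : _root_.True := by simp only [_root_.Cfsg.Agent.NotCT.Typ.Valid.eq_7]
  try have : _root_.True := by simp only [_root_.Cfsg.Agent.NotCT.sA.eq_def]
  try have : _root_.True := by simp only [_root_.Cfsg.Agent.NotCT.Typ.P.eq_14]
  try have : _root_.True := by simp only [_root_.Cfsg.Agent.NotCT.Typ.Valid.eq_5]
  try have : _root_.True := by simp only [_root_.Cfsg.Agent.NotCT.Typ.D.eq_16]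
  try have : _root_.True := by simp only [_root_.Cfsg.Agent.NotCT.Typ.e.eq_16]
  try have : _root_.True := by simp only [_root_.Cfsg.Agent.NotCT.pA.eq_1]
  try have : _root_.True := by simp only [_root_.Cfsg.Agent.NotCT.pU.eq_def]
  try have : _root_.True := by simp only [_root_.Cfsg.Agent.NotCT.Typ.P.eq_3]
  exact _root_.True.intro
end

-- part: NotCT/Fam
section
prune_inst 0x2000000000000000000040001c0282000000000b00010000000004800c0100000620b0100200010000244038000000000009000000000000020041180080000304020000a000100000008800000000000000000000000000000000000000000000000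
set_option linter.all false
open scoped Cfsg.Agent.FastGrp

-- merged: Cfsg.Agent.NotCT.Src
section

/-!
# The order formula `D t q * |t(q)| = q ^ N t * P t q` (helper77)

* `card_eq` : `IsTyp t q X → HasOrd t q X`;
* `exists_typ` : a group of Lie type in characteristic `p` has a type; `lie_of_typ` : the converse.
-/

set_option autoImplicit false

namespace Cfsg.Agent.NotCT

open Cfsg

theorem prod_pC (q m : ℕ) : ∏ i ∈ Finset.range m, (q ^ (2 * (i + 1)) - 1) = pC q m := by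
  induction m with
  | zero => rfl
  | succ m ih => rw [Finset.prod_range_succ, ih, pC]

theorem prod_pA (q m : ℕ) : ∏ i ∈ Finset.range m, (q ^ (i + 1 + 1) - 1) = pA q m := by
  induction m with
  | zero => rfl
  | succ m ih => rw [Finset.prod_range_succ, ih, pA]

theorem prod_pU (q n : ℕ) :
    ∏ i ∈ Finset.range (n + 1), (if Even i then q ^ (i + 1) + 1 else q ^ (i + 1) - 1) = (q + 1) * pU q n := by
  induction n with
  | zero => simp only [pU, _root_.zero_add, _root_.Finset.range_one, _root_.Finset.prod_singleton, _root_.Even.zero, ↓ _root_.reduceIte, _root_.pow_one, _root_.Cfsg.Agent.NotCT.pU, _root_.mul_one, _root_.Nat.add_left_cancel_iff]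
  | succ n ih =>
    rw [Finset.prod_range_succ, ih, pU, mul_assoc]
    congr 2
    by_cases h : n % 2 = 0
    · rw [if_neg, if_pos h]
      rw [Nat.even_iff]
      omega
    · rw [if_pos, if_neg h]
      rw [Nat.even_iff]
      omega

theorem prod_gl (q n : ℕ) (hn : 1 ≤ n) :
    ∏ i : Fin n, (q ^ n - q ^ (i : ℕ)) = (q - 1) * (q ^ (n * (n - 1) / 2) * pA q (n - 1)) := by
  rw [Fin.prod_univ_eq_prod_range (fun i => q ^ n - q ^ i) n]
  have h1 : ∀ i ∈ Finset.range n, q ^ n - q ^ i = q ^ i * (q ^ (n - i) - 1) := by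
    intro i hi
    rw [Finset.mem_range] at hi
    rw [Nat.mul_sub, ← pow_add, mul_one]
    congr 2
    omega
  rw [Finset.prod_congr rfl h1, Finset.prod_mul_distrib, Finset.prod_pow_eq_pow_sum, Finset.sum_range_id]
  have h2 : ∏ i ∈ Finset.range n, (q ^ (n - i) - 1) = ∏ i ∈ Finset.range n, (q ^ (i + 1) - 1) := by
    rw [← Finset.prod_range_reflect]
    refine Finset.prod_congr rfl fun i hi => ?_
    rw [Finset.mem_range] at hi
    congr 2
    omega
  rw [h2]
  obtain ⟨m, rfl⟩ := Nat.exists_eq_add_of_le' hn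
  rw [Finset.prod_range_succ', prod_pA, zero_add, pow_one, Nat.add_sub_cancel]
  ring

/-- **The order formula.** -/
theorem card_eq {p k : ℕ} (hp : p.Prime) {t : Typ} (hv : t.Valid p k) {X : Type*} [Group X]
    (h : IsTyp t (p ^ k) X) :
    HasOrd t (p ^ k) X := by
  show t.D (p ^ k) * Nat.card X = (p ^ k) ^ t.N * t.P (p ^ k)
  have hpk : 1 ≤ k → IsPrimePow (p ^ k) := fun hk => ⟨p, k, hp.prime, hk, rfl⟩
  have hq1 : 0 < p ^ k - 1 ∨ k = 0 := by
    rcases Nat.eq_zero_or_pos k with h0 | h0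
    · exact Or.inr h0
    · exact Or.inl (Nat.sub_pos_of_lt (Nat.one_lt_pow h0.ne' hp.one_lt))
  cases t with
  | L n =>
    obtain ⟨hk, hn, -⟩ := hv
    obtain ⟨F, _, _, hF, ⟨e⟩⟩ := h
    have h1 := Cfsg.Agent.S0243.result hF n hn
    rw [prod_gl _ _ (by omega), mul_left_comm] at h1
    rw [Nat.card_congr e.toEquiv]
    exact Nat.eq_of_mul_eq_mul_left (hq1.resolve_right (by omega)) h1
  | S m =>
    obtain ⟨hk, hm, -⟩ := hv
    obtain ⟨F, _, _, hF, ⟨e⟩⟩ := h
    have h1 := Cfsg.Agent.S0245.result hF m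
    have h2 := Cfsg.Agent.S0246.result hF m (by omega)
    have h3 := Subgroup.card_eq_card_quotient_mul_card_subgroup
      (Subgroup.center (Matrix.symplecticGroup (Fin m) F))
    rw [h1, h2, prod_pC] at h3
    rw [Nat.card_congr e.toEquiv, mul_comm]
    exact h3.symm
  | U n =>
    obtain ⟨hk, hn, -⟩ := hv
    obtain ⟨F, _, _, hF, ⟨e⟩⟩ := h
    have h1 := Cfsg.Agent.S0280.result hF n (by omega)
    obtain ⟨m, rfl⟩ := Nat.exists_eq_add_of_le' (show 1 ≤ n by omega)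
    rw [prod_pU, mul_left_comm, mul_left_comm _ (p ^ k + 1)] at h1
    rw [Nat.card_congr e.toEquiv]
    exact Nat.eq_of_mul_eq_mul_left (Nat.succ_pos _) h1
  | OO m =>
    obtain ⟨hk, hm, hp2⟩ := hv
    obtain ⟨F, _, _, hF, ⟨e⟩⟩ := h
    have hodd : Odd (p ^ k) := (hp.odd_of_ne_two hp2).pow
    have h1 := Cfsg.Agent.S0292.result hF hodd m hm
    rw [prod_pC] at h1
    rw [Nat.card_congr e.toEquiv]
    have h2 : Nat.gcd 2 (p ^ k - 1) = 2 := by
      obtain ⟨c, hc⟩ := hodd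
      rw [hc, Nat.add_sub_cancel]
      exact Nat.gcd_eq_left (Dvd.intro _ rfl)
    show Nat.gcd 2 (p ^ k - 1) * _ = _
    rw [h2]
    exact h1
  | OP m =>
    obtain ⟨hk, hm⟩ := hv
    obtain ⟨F, _, _, hF, ⟨e⟩⟩ := h
    have h1 := Cfsg.Agent.S0293.result hF m hm
    rw [prod_pC, mul_assoc] at h1
    rw [Nat.card_congr e.toEquiv]
    exact h1
  | OM m =>
    obtain ⟨hk, hm⟩ := hv
    obtain ⟨F, _, _, a, b, hF, hab, ⟨e⟩⟩ := h
    have h1 := Cfsg.Agent.S0294.result hF m hm a b hab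
    rw [prod_pC, mul_assoc] at h1
    rw [Nat.card_congr e.toEquiv]
    exact h1
  | G2 =>
    obtain ⟨F, _, _, hF, ⟨e⟩⟩ := h
    rw [Nat.card_congr e.toEquiv, Cfsg.Agent.S1059.result hF]
    simp only [Typ.D, Typ.N, Typ.P, mul_assoc, one_mul]
  | F4 =>
    obtain ⟨F, _, _, hF, ⟨e⟩⟩ := h
    rw [Nat.card_congr e.toEquiv, Cfsg.Agent.S1062.result hF]
    simp only [Typ.D, Typ.N, Typ.P, mul_assoc, one_mul]
  | E6 =>
    obtain ⟨F, _, _, hF, ⟨e⟩⟩ := h
    rw [Nat.card_congr e.toEquiv]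
    refine (Cfsg.Agent.S1063.result hF).trans ?_
    simp only [Typ.N, Typ.P, mul_assoc]
  | E7 =>
    obtain ⟨F, _, _, hF, ⟨e⟩⟩ := h
    rw [Nat.card_congr e.toEquiv]
    refine (Cfsg.Agent.S1064.result hF).trans ?_
    simp only [Typ.N, Typ.P, mul_assoc]
  | E8 =>
    obtain ⟨F, _, _, hF, ⟨e⟩⟩ := h
    rw [Nat.card_congr e.toEquiv, Cfsg.Agent.S1065.result hF]
    simp only [Typ.D, Typ.N, Typ.P, mul_assoc, one_mul]
  | TE6 =>
    obtain ⟨F, _, _, hF, ⟨e⟩⟩ := h
    rw [Nat.card_congr e.toEquiv]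
    refine (Cfsg.Agent.S1066.result (hpk hv) hF).trans ?_
    simp only [Typ.N, Typ.P, mul_assoc]
  | TD4 =>
    obtain ⟨F, _, _, hF, ⟨e⟩⟩ := h
    rw [Nat.card_congr e.toEquiv, Cfsg.Agent.S1067.result (hpk hv) hF]
    simp only [Typ.D, Typ.N, Typ.P, mul_assoc, one_mul]
  | SZ =>
    obtain ⟨rfl, hk, hk2⟩ := hv
    obtain ⟨F, _, _, m, hF, hm, ⟨e⟩⟩ := h
    have hkm : k = 2 * m + 1 := Nat.pow_right_injective (le_refl 2) hm
    subst hkm
    rw [Nat.card_congr e.toEquiv, (Cfsg.Agent.S1163.result (by omega) hF).1]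
    simp only [Typ.D, Typ.N, Typ.P, mul_assoc, one_mul]
  | TF4 =>
    obtain ⟨rfl, hk, hk2⟩ := hv
    obtain ⟨F, _, _, m, hF, hm, ⟨e⟩⟩ := h
    have hkm : k = 2 * m + 1 := Nat.pow_right_injective (le_refl 2) hm
    subst hkm
    rw [Nat.card_congr e.toEquiv, Cfsg.Agent.S1068.result hF]
    simp only [Typ.D, Typ.N, Typ.P, mul_assoc, one_mul]
  | RG =>
    obtain ⟨rfl, hk, hk2⟩ := hv
    obtain ⟨F, _, _, m, hF, hm, ⟨e⟩⟩ := h
    have hkm : k = 2 * m + 1 := Nat.pow_right_injective (by norm_num) hm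
    subst hkm
    rw [Nat.card_congr e.toEquiv, Cfsg.Agent.S1069.result hF]
    simp only [Typ.D, Typ.N, Typ.P, mul_assoc, one_mul]

/-! ### every group of Lie type has a type -/

theorem exists_root {p q n a : ℕ} (hp : p.Prime) (hn : n ≠ 0) (ha : 1 ≤ a) (h : q ^ n = p ^ a) :
    ∃ k, 1 ≤ k ∧ q = p ^ k := by
  have h1 : q ∣ p ^ a := h ▸ dvd_pow_self q hn
  obtain ⟨b, -, hb⟩ := (Nat.dvd_prime_pow hp).mp h1
  refine ⟨b, ?_, hb⟩
  by_contra hb0
  have h2 : b = 0 := by omega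
  rw [hb, h2, pow_zero, one_pow] at h
  have h3 : p ^ 1 ≤ p ^ a := Nat.pow_le_pow_right hp.pos ha
  rw [pow_one, ← h] at h3
  have := hp.two_le
  omega

theorem card_pow (F : Type*) [Field F] [Fintype F] (p : ℕ) [CharP F p] : ∃ a : ℕ, 1 ≤ a ∧ Fintype.card F = p ^ a := by
  obtain ⟨n, -, hn⟩ := FiniteField.card F p
  exact ⟨n, n.pos, hn⟩

/-- **Every group of Lie type in characteristic `p` has a type.** -/
theorem exists_typ {p : ℕ} {X : Type*} [Group X] (hp : p.Prime) (h : IsLieTypeChar p X) :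
    ∃ (t : Typ) (k : ℕ), t.Valid p k ∧ IsTyp t (p ^ k) X := by
  rcases h with h | h | h | h | h | h | h | h | ⟨rfl, h⟩ | ⟨rfl, h⟩ | ⟨rfl, h⟩
  · obtain ⟨F, _, _, _, n, h1, h2, h3⟩ := h
    obtain ⟨a, ha, hF⟩ := card_pow F p
    exact ⟨.L n, a, ⟨ha, h1, fun h => hF ▸ h2 h⟩, F, _, _, hF, h3⟩
  · obtain ⟨F, _, _, _, n, h1, h2, h3⟩ := h
    obtain ⟨a, ha, hF⟩ := card_pow F p
    exact ⟨.S n, a, ⟨ha, h1, fun h => hF ▸ h2 h⟩, F, _, _, hF, h3⟩
  · obtain ⟨F, _, _, _, n, q, hq, h1, h2, h3⟩ := h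
    obtain ⟨a, ha, hF⟩ := card_pow F p
    obtain ⟨k, hk, rfl⟩ := exists_root hp two_ne_zero ha (hq.symm.trans hF)
    exact ⟨.U n, k, ⟨hk, h1, h2⟩, F, _, _, hq, h3⟩
  · obtain ⟨F, _, _, _, n, h1, h2, h3⟩ := h
    obtain ⟨a, ha, hF⟩ := card_pow F p
    refine ⟨.OO n, a, ⟨ha, h1, ?_⟩, F, _, _, hF, h3⟩
    rintro rfl
    rw [hF] at h2
    exact (Nat.not_odd_iff_even.2 (even_iff_two_dvd.2 (dvd_pow_self 2 (by omega)))) h2
  · obtain ⟨F, _, _, _, n, h1, h3⟩ := h
    obtain ⟨a, ha, hF⟩ := card_pow F p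
    exact ⟨.OP n, a, ⟨ha, h1⟩, F, _, _, hF, h3⟩
  · obtain ⟨F, _, _, _, n, b, c, h1, h2, h3⟩ := h
    obtain ⟨a, ha, hF⟩ := card_pow F p
    exact ⟨.OM n, a, ⟨ha, h1⟩, F, _, _, b, c, hF, h2, h3⟩
  · obtain ⟨F, _, _, _, h⟩ := h
    obtain ⟨a, ha, hF⟩ := card_pow F p
    rcases h with ⟨h2, h3⟩ | h3 | h3 | h3 | h3
    · exact ⟨.G2, a, ⟨ha, hF ▸ h2⟩, F, _, _, hF, h3⟩
    · exact ⟨.F4, a, ha, F, _, _, hF, h3⟩
    · exact ⟨.E6, a, ha, F, _, _, hF, h3⟩
    · exact ⟨.E7, a, ha, F, _, _, hF, h3⟩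
    · exact ⟨.E8, a, ha, F, _, _, hF, h3⟩
  · obtain ⟨F, _, _, _, q, -, h⟩ := h
    obtain ⟨a, ha, hF⟩ := card_pow F p
    rcases h with ⟨hq, h3⟩ | ⟨hq, h3⟩
    · obtain ⟨k, hk, rfl⟩ := exists_root hp two_ne_zero ha (hq.symm.trans hF)
      exact ⟨.TE6, k, hk, F, _, _, hq, h3⟩
    · obtain ⟨k, hk, rfl⟩ := exists_root hp three_ne_zero ha (hq.symm.trans hF)
      exact ⟨.TD4, k, hk, F, _, _, hq, h3⟩
  · obtain ⟨F, _, _, m, hm, hF, h3⟩ := h
    exact ⟨.SZ, 2 * m + 1, ⟨rfl, by omega, by omega⟩, F, _, _, m, hF, rfl, h3⟩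
  · obtain ⟨F, _, _, m, hm, hF, h3⟩ := h
    exact ⟨.TF4, 2 * m + 1, ⟨rfl, by omega, by omega⟩, F, _, _, m, hF, rfl, h3⟩
  · obtain ⟨F, _, _, m, hm, hF, h3⟩ := h
    exact ⟨.RG, 2 * m + 1, ⟨rfl, by omega, by omega⟩, F, _, _, m, hF, rfl, h3⟩

/-- the converse -/
theorem lie_of_typ {p k : ℕ} {X : Type*} [Group X] (hp : p.Prime) {t : Typ} (hv : t.Valid p k)
    (h : IsTyp t (p ^ k) X) : IsLieTypeChar p X := by
  have hk := one_le_k hv
  have ch : ∀ (F : Type) [Field F] [Fintype F] (n : ℕ), Fintype.card F = (p ^ k) ^ n → n ≠ 0 → CharP F p := by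
    intro F _ _ n hF hn
    obtain ⟨r, hr⟩ := CharP.exists F
    obtain ⟨a, ha, hFa⟩ := card_pow F r
    have hrp : r.Prime := (CharP.char_is_prime_or_zero F r).resolve_right (CharP.char_ne_zero_of_finite F r)
    have h1 : r ∣ p ^ (k * n) := by
      rw [pow_mul, ← hF, hFa]
      exact dvd_pow_self r (by omega)
    have h2 := (Nat.prime_dvd_prime_iff_eq hrp hp).1 (hrp.dvd_of_dvd_pow h1)
    exact h2 ▸ hr
  have ch1 : ∀ (F : Type) [Field F] [Fintype F], Fintype.card F = p ^ k → CharP F p := fun F _ _ hF =>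
    ch F 1 (by rw [pow_one]; exact hF) one_ne_zero
  have hpk : IsPrimePow (p ^ k) := ⟨p, k, hp.prime, hk, rfl⟩
  cases t with
  | L n =>
    obtain ⟨F, _, _, hF, e⟩ := h
    exact Or.inl ⟨F, inferInstance, inferInstance, ch1 F hF, n, hv.2.1, fun h => hF ▸ hv.2.2 h, e⟩
  | S n =>
    obtain ⟨F, _, _, hF, e⟩ := h
    exact Or.inr (Or.inl ⟨F, inferInstance, inferInstance, ch1 F hF, n, hv.2.1, fun h => hF ▸ hv.2.2 h, e⟩)
  | U n =>
    obtain ⟨F, _, _, hF, e⟩ := h
    exact Or.inr (Or.inr (Or.inl ⟨F, inferInstance, inferInstance, ch F 2 hF two_ne_zero, n, p ^ k, hF, hv.2.1, hv.2.2, e⟩))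
  | OO n =>
    obtain ⟨F, _, _, hF, e⟩ := h
    exact Or.inr (Or.inr (Or.inr (Or.inl ⟨F, inferInstance, inferInstance, ch1 F hF, n, hv.2.1,
      hF ▸ (hp.odd_of_ne_two hv.2.2).pow, e⟩)))
  | OP n =>
    obtain ⟨F, _, _, hF, e⟩ := h
    exact Or.inr (Or.inr (Or.inr (Or.inr (Or.inl ⟨F, inferInstance, inferInstance, ch1 F hF, n, hv.2, e⟩))))
  | OM n =>
    obtain ⟨F, _, _, b, c, hF, hbc, e⟩ := h
    exact Or.inr (Or.inr (Or.inr (Or.inr (Or.inr (Or.inl ⟨F, inferInstance, inferInstance, ch1 F hF, n, b, c, hv.2, hbc, e⟩)))))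
  | G2 =>
    obtain ⟨F, _, _, hF, e⟩ := h
    exact Or.inr (Or.inr (Or.inr (Or.inr (Or.inr (Or.inr (Or.inl ⟨F, inferInstance, inferInstance, ch1 F hF,
      Or.inl ⟨hF ▸ hv.2, e⟩⟩))))))
  | F4 =>
    obtain ⟨F, _, _, hF, e⟩ := h
    exact Or.inr (Or.inr (Or.inr (Or.inr (Or.inr (Or.inr (Or.inl ⟨F, inferInstance, inferInstance, ch1 F hF,
      Or.inr (Or.inl e)⟩))))))
  | E6 =>
    obtain ⟨F, _, _, hF, e⟩ := h
    exact Or.inr (Or.inr (Or.inr (Or.inr (Or.inr (Or.inr (Or.inl ⟨F, inferInstance, inferInstance, ch1 F hF,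
      Or.inr (Or.inr (Or.inl e))⟩))))))
  | E7 =>
    obtain ⟨F, _, _, hF, e⟩ := h
    exact Or.inr (Or.inr (Or.inr (Or.inr (Or.inr (Or.inr (Or.inl ⟨F, inferInstance, inferInstance, ch1 F hF,
      Or.inr (Or.inr (Or.inr (Or.inl e)))⟩))))))
  | E8 =>
    obtain ⟨F, _, _, hF, e⟩ := h
    exact Or.inr (Or.inr (Or.inr (Or.inr (Or.inr (Or.inr (Or.inl ⟨F, inferInstance, inferInstance, ch1 F hF,
      Or.inr (Or.inr (Or.inr (Or.inr e)))⟩))))))
  | TE6 =>
    obtain ⟨F, _, _, hF, e⟩ := h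
    exact Or.inr (Or.inr (Or.inr (Or.inr (Or.inr (Or.inr (Or.inr (Or.inl ⟨F, inferInstance, inferInstance, ch F 2 hF two_ne_zero,
      p ^ k, hpk, Or.inl ⟨hF, e⟩⟩)))))))
  | TD4 =>
    obtain ⟨F, _, _, hF, e⟩ := h
    exact Or.inr (Or.inr (Or.inr (Or.inr (Or.inr (Or.inr (Or.inr (Or.inl ⟨F, inferInstance, inferInstance, ch F 3 hF three_ne_zero,
      p ^ k, hpk, Or.inr ⟨hF, e⟩⟩)))))))
  | SZ =>
    obtain ⟨rfl, hk3, hk2⟩ := hv
    obtain ⟨F, _, _, m, hF, hm, e⟩ := h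
    have hkm : k = 2 * m + 1 := Nat.pow_right_injective (le_refl 2) hm
    exact Or.inr (Or.inr (Or.inr (Or.inr (Or.inr (Or.inr (Or.inr (Or.inr (Or.inl ⟨rfl,
      F, inferInstance, inferInstance, m, by omega, hF, e⟩))))))))
  | TF4 =>
    obtain ⟨rfl, hk3, hk2⟩ := hv
    obtain ⟨F, _, _, m, hF, hm, e⟩ := h
    have hkm : k = 2 * m + 1 := Nat.pow_right_injective (le_refl 2) hm
    exact Or.inr (Or.inr (Or.inr (Or.inr (Or.inr (Or.inr (Or.inr (Or.inr (Or.inr (Or.inl ⟨rfl,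
      F, inferInstance, inferInstance, m, by omega, hF, e⟩)))))))))
  | RG =>
    obtain ⟨rfl, hk3, hk2⟩ := hv
    obtain ⟨F, _, _, m, hF, hm, e⟩ := h
    have hkm : k = 2 * m + 1 := Nat.pow_right_injective (by norm_num) hm
    exact Or.inr (Or.inr (Or.inr (Or.inr (Or.inr (Or.inr (Or.inr (Or.inr (Or.inr (Or.inr ⟨rfl,
      F, inferInstance, inferInstance, m, by omega, hF, e⟩)))))))))

theorem IsTyp.congr {t : Typ} {q : ℕ} {X Y : Type*} [Group X] [Group Y] (e : X ≃* Y) (h : IsTyp t q X) :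
    IsTyp t q Y := by
  cases t with
  | OM n =>
    obtain ⟨F, _, _, b, c, hF, hbc, ⟨f⟩⟩ := h
    exact ⟨F, _, _, b, c, hF, hbc, ⟨e.symm.trans f⟩⟩
  | SZ =>
    obtain ⟨F, _, _, m, hF, hm, ⟨f⟩⟩ := h
    exact ⟨F, _, _, m, hF, hm, ⟨e.symm.trans f⟩⟩
  | TF4 =>
    obtain ⟨F, _, _, m, hF, hm, ⟨f⟩⟩ := h
    exact ⟨F, _, _, m, hF, hm, ⟨e.symm.trans f⟩⟩
  | RG =>
    obtain ⟨F, _, _, m, hF, hm, ⟨f⟩⟩ := h
    exact ⟨F, _, _, m, hF, hm, ⟨e.symm.trans f⟩⟩
  | _ =>
    obtain ⟨F, _, _, hF, ⟨f⟩⟩ := h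
    exact ⟨F, _, _, hF, ⟨e.symm.trans f⟩⟩

end Cfsg.Agent.NotCT

end

-- merged: Cfsg.Agent.NotCT.Inter
section

/-!
# Characteristic 2 against odd characteristic (helper77)

* `NoComp X` : `L_2(X)` is empty;
* `inter` : if `|X| = |t(2 ^ k)|` and `L_2(X)` is empty, then `X ≅ s(r ^ j)`, `r` odd, only for
  `L_2(4) = L_2(5)`, `L_3(2) = L_2(7)`, `U_4(2) = PSp_4(3)`;
* `no_lie`, `no_chev` : the form with `IsLieTypeChar`, `IsChevSimple`.
-/

set_option autoImplicit false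

namespace Cfsg.Agent.NotCT

open Subgroup Cfsg Cfsg.Agent.OddHalf.LongSL Cfsg.Agent.OddHalf.LieOddFam

universe u

/-- `L_2(X)` is empty -/
def NoComp (X : Type u) [Group X] : Prop := LpAll 2 X (fun _ _ => False)

theorem NoComp.no_long {X : Type u} [Group X] [Finite X] (h : NoComp X) {q : ℕ} (hq : 3 < q)
    (hl : HasLong q X) : False :=
  OddTab.not_lpAll_of_hasLong hl hq (P := fun _ _ => False) (fun _ _ _ _ _ h => h) (fun _ _ _ _ _ _ _ _ h => h) h

/-- the families of rank at least 2 -/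
theorem rk_of_typ {X : Type u} [Group X] {s : Typ} {r j : ℕ} (hr2 : r ≠ 2) (hv : s.Valid r j)
    (h : IsTyp s (r ^ j) X) (h2 : s ≠ .L 2) (h3 : s ≠ .RG) : Rk X (r ^ j) := by
  cases s with
  | L n =>
    obtain ⟨F, _, _, hF, e⟩ := h
    have h4 : 3 ≤ n := by
      rcases Nat.lt_or_ge n 3 with h5 | h5
      · have h6 := hv.2.1
        have h7 : n = 2 := by omega
        exact absurd (by rw [h7]) h2
      · exact h5
    exact Or.inl ⟨F, _, _, n, hF, h4, e⟩
  | S n =>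
    obtain ⟨F, _, _, hF, e⟩ := h
    exact Or.inr (Or.inl ⟨F, _, _, n, hF, hv.2.1, e⟩)
  | U n =>
    obtain ⟨F, _, _, hF, e⟩ := h
    exact Or.inr (Or.inr (Or.inl ⟨F, _, _, n, hF, hv.2.1, e⟩))
  | OO n =>
    obtain ⟨F, _, _, hF, e⟩ := h
    exact Or.inr (Or.inr (Or.inr (Or.inl ⟨F, _, _, n, hF, hv.2.1, e⟩)))
  | OP n =>
    obtain ⟨F, _, _, hF, e⟩ := h
    exact Or.inr (Or.inr (Or.inr (Or.inr (Or.inl ⟨F, _, _, n, hF, hv.2, e⟩))))
  | OM n =>
    obtain ⟨F, _, _, b, c, hF, hbc, e⟩ := h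
    exact Or.inr (Or.inr (Or.inr (Or.inr (Or.inr (Or.inl ⟨F, _, _, n, b, c, hF, hv.2, hbc, e⟩)))))
  | G2 =>
    obtain ⟨F, _, _, hF, e⟩ := h
    exact Or.inr (Or.inr (Or.inr (Or.inr (Or.inr (Or.inr (Or.inl ⟨F, _, _, hF, e⟩))))))
  | F4 =>
    obtain ⟨F, _, _, hF, e⟩ := h
    exact Or.inr (Or.inr (Or.inr (Or.inr (Or.inr (Or.inr (Or.inr (Or.inl ⟨F, _, _, hF, e⟩)))))))
  | E6 =>
    obtain ⟨F, _, _, hF, e⟩ := h
    exact Or.inr (Or.inr (Or.inr (Or.inr (Or.inr (Or.inr (Or.inr (Or.inr (Or.inl ⟨F, _, _, hF, e⟩))))))))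
  | E7 =>
    obtain ⟨F, _, _, hF, e⟩ := h
    exact Or.inr (Or.inr (Or.inr (Or.inr (Or.inr (Or.inr (Or.inr (Or.inr (Or.inr (Or.inl
      ⟨F, _, _, hF, e⟩)))))))))
  | E8 =>
    obtain ⟨F, _, _, hF, e⟩ := h
    exact Or.inr (Or.inr (Or.inr (Or.inr (Or.inr (Or.inr (Or.inr (Or.inr (Or.inr (Or.inr (Or.inl
      ⟨F, _, _, hF, e⟩))))))))))
  | TE6 =>
    obtain ⟨F, _, _, hF, e⟩ := h
    exact Or.inr (Or.inr (Or.inr (Or.inr (Or.inr (Or.inr (Or.inr (Or.inr (Or.inr (Or.inr (Or.inr (Or.inl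
      ⟨F, _, _, hF, e⟩)))))))))))
  | TD4 =>
    obtain ⟨F, _, _, hF, e⟩ := h
    exact Or.inr (Or.inr (Or.inr (Or.inr (Or.inr (Or.inr (Or.inr (Or.inr (Or.inr (Or.inr (Or.inr (Or.inr
      ⟨F, _, _, hF, e⟩)))))))))))
  | SZ => exact absurd hv.1 hr2
  | TF4 => exact absurd hv.1 hr2
  | RG => exact absurd rfl h3

section

variable {X : Type u} [Group X] [Finite X] {t s : Typ} {k j r : ℕ}

/-- **Characteristic 2 against odd characteristic.** -/
theorem inter (hv : t.Valid 2 k) (h : HasOrd t (2 ^ k) X) (hn : NoComp X) (hr : r.Prime) (hr2 : r ≠ 2)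
    (hv' : s.Valid r j) (h' : IsTyp s (r ^ j) X) :
    (r ^ j = 5 ∧ s = .L 2 ∧ t = .L 2 ∧ k = 2) ∨ (r ^ j = 7 ∧ s = .L 2 ∧ t = .L 3 ∧ k = 1) ∨
      (r ^ j = 3 ∧ s = .S 2 ∧ t = .U 4 ∧ k = 1) := by
  have hj := one_le_k hv'
  by_cases h2 : s = .L 2
  · subst h2
    rcases no_ltwo hv h hr hr2 hv' (card_eq hr hv' h') with ⟨h3, h4, h5⟩ | ⟨h3, h4, h5⟩
    · exact Or.inl ⟨h3, rfl, h4, h5⟩
    · exact Or.inr (Or.inl ⟨h3, rfl, h4, h5⟩)
  by_cases h3 : s = .RG
  · subst h3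
    obtain rfl := hv'.1
    exact (no_ree hv h hv' (card_eq hr hv' h')).elim
  have h4 := rk_of_typ hr2 hv' h' h2 h3
  have h5 : OddPow (r ^ j) := ⟨r, j, hr, hr2, hj, rfl⟩
  by_cases h6 : 3 < r ^ j
  · exact (hn.no_long h6 (hasLong_of_rk h5 h4)).elim
  · have h7 := h5.three_le
    have h8 : r ^ j = 3 := by omega
    have h9 : r = 3 := by
      have : r ∣ 3 := h8 ▸ dvd_pow_self r (by omega)
      exact (Nat.prime_dvd_prime_iff_eq hr Nat.prime_three).1 this
    subst h9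
    have h10 : j = 1 := Nat.pow_right_injective (by norm_num) (show 3 ^ j = 3 ^ 1 by rw [h8])
    subst h10
    have h11 := card_eq hr hv' h'
    rw [pow_one] at h11
    obtain ⟨h12, h13, h14⟩ := no_three hv h hv' h11
    exact Or.inr (Or.inr ⟨rfl, h12, h13, h14⟩)

/-- Lie type in odd characteristic -/
theorem no_lie {p : ℕ} (hv : t.Valid 2 k) (h : HasOrd t (2 ^ k) X) (hn : NoComp X) (hp : p.Prime) (hp2 : p ≠ 2)
    (hl : IsLieTypeChar p X) :
    (p = 5 ∧ t = .L 2 ∧ k = 2) ∨ (p = 7 ∧ t = .L 3 ∧ k = 1) ∨ (p = 3 ∧ t = .U 4 ∧ k = 1) := by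
  obtain ⟨s, j, hv', h'⟩ := exists_typ hp hl
  have hj := one_le_k hv'
  have key : ∀ {c : ℕ}, c.Prime → p ^ j = c → p = c := fun hc h1 =>
    (Nat.prime_dvd_prime_iff_eq hp hc).1 (h1 ▸ dvd_pow_self p (by omega))
  rcases inter hv h hn hp hp2 hv' h' with ⟨h1, -, h2⟩ | ⟨h1, -, h2⟩ | ⟨h1, -, h2⟩
  · exact Or.inl ⟨key (by norm_num) h1, h2⟩
  · exact Or.inr (Or.inl ⟨key (by norm_num) h1, h2⟩)
  · exact Or.inr (Or.inr ⟨key (by norm_num) h1, h2⟩)

/-- `Chev(p)`, `p` odd -/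
theorem no_chev {p : ℕ} (hv : t.Valid 2 k) (h : HasOrd t (2 ^ k) X) (hn : NoComp X) (hp : p.Prime) (hp2 : p ≠ 2)
    (hl : IsChevSimple p X) :
    (p = 5 ∧ t = .L 2 ∧ k = 2) ∨ (p = 7 ∧ t = .L 3 ∧ k = 1) ∨ (p = 3 ∧ t = .U 4 ∧ k = 1) ∨
      (p = 3 ∧ t = .L 2 ∧ k = 3) := by
  rcases hl with hl | ⟨h2, -⟩ | ⟨rfl, F, _, _, hF, e⟩
  · rcases no_lie hv h hn hp hp2 hl with h1 | h1 | h1
    · exact Or.inl h1
    · exact Or.inr (Or.inl h1)
    · exact Or.inr (Or.inr (Or.inl h1))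
  · exact absurd h2 hp2
  · have hv' : Typ.Valid 2 (.L 2) 3 := by decide
    have h1 := card_eq Nat.prime_two hv' (X := X) ⟨F, _, _, hF, e⟩
    have h2 : Nat.card X = 504 := by
      have h3 : Typ.D (.L 2) (2 ^ 3) * Nat.card X = (2 ^ 3) ^ Typ.N (.L 2) * Typ.P (.L 2) (2 ^ 3) := h1
      rw [show Typ.D (.L 2) (2 ^ 3) = 1 by decide, one_mul] at h3
      exact h3.trans (by decide)
    have h4 := typ_mem Nat.prime_two hv h h2 (a := 3) (by norm_num) (by norm_num) (ex := [(.L 2, 3)])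
      (by decide +kernel)
    simp at h4
    exact Or.inr (Or.inr (Or.inr ⟨rfl, h4.1, h4.2⟩))

end

end Cfsg.Agent.NotCT

end

-- merged: Cfsg.Agent.NotCT.Spor
section

/-!
# Characteristic 2 against the sporadic groups and the Tits group (helper77)

* `no_spor`, `no_tits` : if `|X| = |t(2 ^ k)|`, then `X` is not sporadic and not the Tits group.
-/

set_option autoImplicit false

namespace Cfsg.Agent.NotCT

open Cfsg

variable {X : Type*} {t : Typ} {k : ℕ}

theorem no_card {n0 : ℕ} (a : ℕ) (hv : t.Valid 2 k) (h : HasOrd t (2 ^ k) X) (hc : Nat.card X = n0)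
    (h1 : 2 ^ a ∣ n0) (h2 : ¬ 2 ^ (a + 1) ∣ n0) (hchk : chk n0 2 a [] = true) : False := by
  have h3 := typ_mem Nat.prime_two hv h hc h1 h2 hchk
  simp at h3

theorem no_m11 (hv : t.Valid 2 k) (h : HasOrd t (2 ^ k) X) (h' : Nat.card X = 7920) : False :=
  no_card 4 hv h h' (by norm_num) (by norm_num) (by decide +kernel)

theorem no_m12 (hv : t.Valid 2 k) (h : HasOrd t (2 ^ k) X) (h' : Nat.card X = 95040) : False :=
  no_card 6 hv h h' (by norm_num) (by norm_num) (by decide +kernel)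

theorem no_m22 (hv : t.Valid 2 k) (h : HasOrd t (2 ^ k) X) (h' : Nat.card X = 443520) : False :=
  no_card 7 hv h h' (by norm_num) (by norm_num) (by decide +kernel)

theorem no_m23 (hv : t.Valid 2 k) (h : HasOrd t (2 ^ k) X) (h' : Nat.card X = 10200960) : False :=
  no_card 7 hv h h' (by norm_num) (by norm_num) (by decide +kernel)

theorem no_m24 (hv : t.Valid 2 k) (h : HasOrd t (2 ^ k) X) (h' : Nat.card X = 244823040) : False :=
  no_card 10 hv h h' (by norm_num) (by norm_num) (by decide +kernel)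

theorem no_j1 (hv : t.Valid 2 k) (h : HasOrd t (2 ^ k) X) (h' : Nat.card X = 175560) : False :=
  no_card 3 hv h h' (by norm_num) (by norm_num) (by decide +kernel)

theorem no_j2 (hv : t.Valid 2 k) (h : HasOrd t (2 ^ k) X) (h' : Nat.card X = 604800) : False :=
  no_card 7 hv h h' (by norm_num) (by norm_num) (by decide +kernel)

theorem no_j3 (hv : t.Valid 2 k) (h : HasOrd t (2 ^ k) X) (h' : Nat.card X = 50232960) : False :=
  no_card 7 hv h h' (by norm_num) (by norm_num) (by decide +kernel)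

theorem no_j4 (hv : t.Valid 2 k) (h : HasOrd t (2 ^ k) X) (h' : Nat.card X = 86775571046077562880) : False :=
  no_card 21 hv h h' (by norm_num) (by norm_num) (by decide +kernel)

theorem no_co1 (hv : t.Valid 2 k) (h : HasOrd t (2 ^ k) X) (h' : Nat.card X = 4157776806543360000) : False :=
  no_card 21 hv h h' (by norm_num) (by norm_num) (by decide +kernel)

theorem no_co2 (hv : t.Valid 2 k) (h : HasOrd t (2 ^ k) X) (h' : Nat.card X = 42305421312000) : False :=
  no_card 18 hv h h' (by norm_num) (by norm_num) (by decide +kernel)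

theorem no_co3 (hv : t.Valid 2 k) (h : HasOrd t (2 ^ k) X) (h' : Nat.card X = 495766656000) : False :=
  no_card 10 hv h h' (by norm_num) (by norm_num) (by decide +kernel)

theorem no_mcl (hv : t.Valid 2 k) (h : HasOrd t (2 ^ k) X) (h' : Nat.card X = 898128000) : False :=
  no_card 7 hv h h' (by norm_num) (by norm_num) (by decide +kernel)

theorem no_hs (hv : t.Valid 2 k) (h : HasOrd t (2 ^ k) X) (h' : Nat.card X = 44352000) : False :=
  no_card 9 hv h h' (by norm_num) (by norm_num) (by decide +kernel)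

theorem no_suz (hv : t.Valid 2 k) (h : HasOrd t (2 ^ k) X) (h' : Nat.card X = 448345497600) : False :=
  no_card 13 hv h h' (by norm_num) (by norm_num) (by decide +kernel)

theorem no_he (hv : t.Valid 2 k) (h : HasOrd t (2 ^ k) X) (h' : Nat.card X = 4030387200) : False :=
  no_card 10 hv h h' (by norm_num) (by norm_num) (by decide +kernel)

theorem no_ru (hv : t.Valid 2 k) (h : HasOrd t (2 ^ k) X) (h' : Nat.card X = 145926144000) : False :=
  no_card 14 hv h h' (by norm_num) (by norm_num) (by decide +kernel)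

theorem no_on (hv : t.Valid 2 k) (h : HasOrd t (2 ^ k) X) (h' : Nat.card X = 460815505920) : False :=
  no_card 9 hv h h' (by norm_num) (by norm_num) (by decide +kernel)

theorem no_ly (hv : t.Valid 2 k) (h : HasOrd t (2 ^ k) X) (h' : Nat.card X = 51765179004000000) : False :=
  no_card 8 hv h h' (by norm_num) (by norm_num) (by decide +kernel)

theorem no_fi22 (hv : t.Valid 2 k) (h : HasOrd t (2 ^ k) X) (h' : Nat.card X = 64561751654400) : False :=
  no_card 17 hv h h' (by norm_num) (by norm_num) (by decide +kernel)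

theorem no_fi23 (hv : t.Valid 2 k) (h : HasOrd t (2 ^ k) X) (h' : Nat.card X = 4089470473293004800) : False :=
  no_card 18 hv h h' (by norm_num) (by norm_num) (by decide +kernel)

theorem no_fi24 (hv : t.Valid 2 k) (h : HasOrd t (2 ^ k) X) (h' : Nat.card X = 1255205709190661721292800) : False :=
  no_card 21 hv h h' (by norm_num) (by norm_num) (by decide +kernel)

theorem no_hn (hv : t.Valid 2 k) (h : HasOrd t (2 ^ k) X) (h' : Nat.card X = 273030912000000) : False :=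
  no_card 14 hv h h' (by norm_num) (by norm_num) (by decide +kernel)

theorem no_th (hv : t.Valid 2 k) (h : HasOrd t (2 ^ k) X) (h' : Nat.card X = 90745943887872000) : False :=
  no_card 15 hv h h' (by norm_num) (by norm_num) (by decide +kernel)

theorem no_b (hv : t.Valid 2 k) (h : HasOrd t (2 ^ k) X) (h' : Nat.card X = 4154781481226426191177580544000000) : False :=
  no_card 41 hv h h' (by norm_num) (by norm_num) (by decide +kernel)

theorem no_m (hv : t.Valid 2 k) (h : HasOrd t (2 ^ k) X) (h' : Nat.card X = 808017424794512875886459904961710757005754368000000000) : False :=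
  no_card 46 hv h h' (by norm_num) (by norm_num) (by decide +kernel)

theorem no_tits_card (hv : t.Valid 2 k) (h : HasOrd t (2 ^ k) X) (h' : Nat.card X = 17971200) : False :=
  no_card 11 hv h h' (by norm_num) (by norm_num) (by decide +kernel)

theorem no_tits [Group X] (hv : t.Valid 2 k) (h : HasOrd t (2 ^ k) X) : ¬ Lie.IsoTits X := fun h' =>
  no_tits_card hv h (Orders.tits h')

theorem no_spor [Group X] (hv : t.Valid 2 k) (h : HasOrd t (2 ^ k) X) : ¬ IsSporadicGroup X := by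
  rintro (h' | h' | h' | h' | h' | h' | h' | h' | h' | h' | h' | h' | h' | h' | h' | h' | h' | h' | h' | h' | h' | h' | h' | h' | h' | h')
  · exact no_m11 hv h (Orders.m11 h')
  · exact no_m12 hv h (Orders.m12 h')
  · exact no_m22 hv h (Orders.m22 h')
  · exact no_m23 hv h (Orders.m23 h')
  · exact no_m24 hv h (Orders.m24 h')
  · exact no_j1 hv h (Orders.j1 h')
  · exact no_j2 hv h (Orders.j2 h')
  · exact no_j3 hv h (Orders.j3 h')
  · exact no_j4 hv h (Orders.j4 h')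
  · exact no_co1 hv h (Orders.co1 h')
  · exact no_co2 hv h (Orders.co2 h')
  · exact no_co3 hv h (Orders.co3 h')
  · exact no_mcl hv h (Orders.mcl h')
  · exact no_hs hv h (Orders.hs h')
  · exact no_suz hv h (Orders.suz h')
  · exact no_he hv h (Orders.he h')
  · exact no_ru hv h (Orders.ru h')
  · exact no_on hv h (Orders.on h')
  · exact no_ly hv h (Orders.ly h')
  · exact no_fi22 hv h (Orders.fi22 h')
  · exact no_fi23 hv h (Orders.fi23 h')
  · exact no_fi24 hv h (Orders.fi24 h')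
  · exact no_hn hv h (Orders.hn h')
  · exact no_th hv h (Orders.th h')
  · exact no_b hv h (Orders.b h')
  · exact no_m hv h (Orders.m h')

end Cfsg.Agent.NotCT

end

-- merged: Cfsg.Agent.NotCT.Alt
section

/-!
# Characteristic 2 against the alternating groups (helper77)

* `no_alt` : if `|X| = |t(2 ^ k)|` and `X ≅ A_n`, `5 ≤ n`, then `n = 5` (`L_2(4)`) or `n = 8` (`L_4(2)`, `L_3(4)`).
-/

set_option autoImplicit false

namespace Cfsg.Agent.NotCT

open Cfsg

theorem T_factorial {n : ℕ} (hn : n ≠ 0) : T n.factorial ≤ 2 ^ (n - 1) := by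
  unfold T
  refine Nat.pow_le_pow_right (by norm_num) ?_
  have h1 : 2 ^ (n.factorial.factorization 2) ∣ n.factorial := Nat.ordProj_dvd _ _
  have h2 := pow_dvd_iff_le_emultiplicity.1 h1
  have h3 := lt_of_le_of_lt h2 (Nat.emultiplicity_two_factorial_lt hn)
  have h4 : n.factorial.factorization 2 < n := by exact_mod_cast h3
  omega

theorem two_card_alt {X : Type*} [Group X] {n : ℕ} (hn : 2 ≤ n) (e : Nonempty (X ≃* alternatingGroup (Fin n))) :
    2 * Nat.card X = n.factorial := by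
  obtain ⟨e⟩ := e
  have : Nontrivial (Fin n) := Fin.nontrivial_iff_two_le.2 hn
  rw [Nat.card_congr e.toEquiv, Nat.card_eq_fintype_card, two_mul_card_alternatingGroup, Fintype.card_perm,
    Fintype.card_fin]

theorem factorial_gt {n : ℕ} (hn : 15 ≤ n) : 2 * 8 ^ (n - 2) < n.factorial := by
  induction n, hn using Nat.le_induction with
  | base => decide +kernel
  | succ n hn ih =>
    rw [Nat.factorial_succ, show n + 1 - 2 = (n - 2) + 1 by omega, pow_succ]
    calc 2 * (8 ^ (n - 2) * 8) = 8 * (2 * 8 ^ (n - 2)) := by ring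
      _ < 8 * n.factorial := Nat.mul_lt_mul_of_pos_left ih (by norm_num)
      _ ≤ _ := Nat.mul_le_mul_right _ (by omega)

section

variable {X : Type*} {t : Typ} {k : ℕ}

/-- **Alternating groups**, in terms of the order. -/
theorem no_alt_card {n : ℕ} (hv : t.Valid 2 k) (h : HasOrd t (2 ^ k) X) (hn : 5 ≤ n)
    (h' : 2 * Nat.card X = n.factorial) :
    (n = 5 ∧ t = .L 2 ∧ k = 2) ∨ (n = 8 ∧ ((t = .L 4 ∧ k = 1) ∨ (t = .L 3 ∧ k = 2))) := by
  rcases Nat.lt_or_ge n 15 with h15 | h15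
  · interval_cases n
    · have h1 : Nat.card X = 60 := by
        rw [show Nat.factorial 5 = 2 * 60 by decide +kernel] at h'
        omega
      have h2 := typ_mem Nat.prime_two hv h h1 (a := 2) (by norm_num) (by norm_num)
        (ex := [(.L 2, 2)]) (by decide +kernel)
      simp at h2
      exact Or.inl ⟨rfl, h2⟩
    · have h1 : Nat.card X = 360 := by
        rw [show Nat.factorial 6 = 2 * 360 by decide +kernel] at h'
        omega
      have h2 := typ_mem Nat.prime_two hv h h1 (a := 3) (by norm_num) (by norm_num)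
        (ex := []) (by decide +kernel)
      simp at h2
    · have h1 : Nat.card X = 2520 := by
        rw [show Nat.factorial 7 = 2 * 2520 by decide +kernel] at h'
        omega
      have h2 := typ_mem Nat.prime_two hv h h1 (a := 3) (by norm_num) (by norm_num)
        (ex := []) (by decide +kernel)
      simp at h2
    · have h1 : Nat.card X = 20160 := by
        rw [show Nat.factorial 8 = 2 * 20160 by decide +kernel] at h'
        omega
      have h2 := typ_mem Nat.prime_two hv h h1 (a := 6) (by norm_num) (by norm_num)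
        (ex := [(.L 4, 1), (.L 3, 2)]) (by decide +kernel)
      simp at h2
      exact Or.inr ⟨rfl, h2⟩
    · have h1 : Nat.card X = 181440 := by
        rw [show Nat.factorial 9 = 2 * 181440 by decide +kernel] at h'
        omega
      have h2 := typ_mem Nat.prime_two hv h h1 (a := 6) (by norm_num) (by norm_num)
        (ex := []) (by decide +kernel)
      simp at h2
    · have h1 : Nat.card X = 1814400 := by
        rw [show Nat.factorial 10 = 2 * 1814400 by decide +kernel] at h'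
        omega
      have h2 := typ_mem Nat.prime_two hv h h1 (a := 7) (by norm_num) (by norm_num)
        (ex := []) (by decide +kernel)
      simp at h2
    · have h1 : Nat.card X = 19958400 := by
        rw [show Nat.factorial 11 = 2 * 19958400 by decide +kernel] at h'
        omega
      have h2 := typ_mem Nat.prime_two hv h h1 (a := 7) (by norm_num) (by norm_num)
        (ex := []) (by decide +kernel)
      simp at h2
    · have h1 : Nat.card X = 239500800 := by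
        rw [show Nat.factorial 12 = 2 * 239500800 by decide +kernel] at h'
        omega
      have h2 := typ_mem Nat.prime_two hv h h1 (a := 9) (by norm_num) (by norm_num)
        (ex := []) (by decide +kernel)
      simp at h2
    · have h1 : Nat.card X = 3113510400 := by
        rw [show Nat.factorial 13 = 2 * 3113510400 by decide +kernel] at h'
        omega
      have h2 := typ_mem Nat.prime_two hv h h1 (a := 9) (by norm_num) (by norm_num)
        (ex := []) (by decide +kernel)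
      simp at h2
    · have h1 : Nat.card X = 43589145600 := by
        rw [show Nat.factorial 14 = 2 * 43589145600 by decide +kernel] at h'
        omega
      have h2 := typ_mem Nat.prime_two hv h h1 (a := 10) (by norm_num) (by norm_num)
        (ex := []) (by decide +kernel)
      simp at h2
  · exfalso
    have h1 := card_le_T hv h
    have h2 := T_factorial (show n ≠ 0 by omega)
    have h3 := factorial_gt h15
    have h4 := card_ne_zero Nat.prime_two hv h
    rw [← h', T_mul (by norm_num) h4, show T 2 = 2 from T_of (a := 1) (c := 1) (by norm_num) (by norm_num)] at h2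
    have h5 : T (Nat.card X) ≤ 2 ^ (n - 2) := by
      rw [show n - 1 = (n - 2) + 1 by omega, pow_succ] at h2
      omega
    have h6 : Nat.card X ≤ 8 ^ (n - 2) := by
      calc Nat.card X ≤ T (Nat.card X) ^ 3 := h1
        _ ≤ (2 ^ (n - 2)) ^ 3 := Nat.pow_le_pow_left h5 3
        _ = 8 ^ (n - 2) := by rw [← pow_mul, mul_comm, pow_mul]; norm_num
    omega

/-- **Alternating groups.** -/
theorem no_alt [Group X] {n : ℕ} (hv : t.Valid 2 k) (h : HasOrd t (2 ^ k) X) (hn : 5 ≤ n)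
    (e : Nonempty (X ≃* alternatingGroup (Fin n))) :
    (n = 5 ∧ t = .L 2 ∧ k = 2) ∨ (n = 8 ∧ ((t = .L 4 ∧ k = 1) ∨ (t = .L 3 ∧ k = 2))) :=
  no_alt_card hv h hn (two_card_alt (by omega) e)

end

end Cfsg.Agent.NotCT

end

-- merged: Cfsg.Agent.NotCT.Even
section

/-!
# Characteristic 2: not in `C_p`, not in `T_p` (helper77)

`K` a group, `X = K / Z(K)` with `|X| = |t(2 ^ k)|` and `L_2(X)` empty, `p` odd:
* `not_inC` : `¬ InC p K` if `¬ ExC p t k`;
* `not_inT` : `¬ InT p K` if `¬ ExT p t k` and `¬ PRankLE p 1 K`.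
-/

set_option autoImplicit false

namespace Cfsg.Agent.NotCT

open Subgroup Cfsg

universe u

/-- the members of the `C_p` list of characteristic 2, `p` odd -/
def ExC (p : ℕ) (t : Typ) (k : ℕ) : Prop :=
  (p = 3 ∧ (t, k) ∈ ([(.L 2, 3), (.U 4, 1), (.U 5, 1), (.U 6, 1), (.S 3, 1), (.OP 4, 1), (.F4, 1), (.TD4, 1),
    (.S 2, 3)] : List (Typ × ℕ))) ∨
  (p = 5 ∧ (t, k) ∈ ([(.L 2, 2), (.TF4, 5), (.SZ, 5)] : List (Typ × ℕ))) ∨ (p = 7 ∧ (t, k) = (.L 3, 1))

/-- the members of the `T_p` list of characteristic 2, `p` odd -/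
def ExT (p : ℕ) (t : Typ) (k : ℕ) : Prop :=
  p = 3 ∧ (t = .L 3 ∨ t = .U 3 ∨ (t, k) = (.G2, 3) ∨ (t, k) = (.L 4, 1))

section

variable {X : Type u} {t s : Typ} {k j : ℕ}

theorem mem_of_ord {n0 : ℕ} (a : ℕ) (ex : List (Typ × ℕ)) (hv : t.Valid 2 k) (h : HasOrd t (2 ^ k) X)
    (hv' : s.Valid 2 j) (h' : HasOrd s (2 ^ j) X) (hn : s.D (2 ^ j) * n0 = (2 ^ j) ^ s.N * s.P (2 ^ j))
    (h1 : 2 ^ a ∣ n0) (h2 : ¬ 2 ^ (a + 1) ∣ n0) (hchk : chk n0 2 a ex = true) : (t, k) ∈ ex := by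
  have h3 : s.D (2 ^ j) * Nat.card X = s.D (2 ^ j) * n0 := h'.trans hn.symm
  exact typ_mem Nat.prime_two hv h (Nat.eq_of_mul_eq_mul_left (D_pos Nat.prime_two hv') h3) h1 h2 hchk

theorem mem_of_typ [Group X] {n0 : ℕ} (a : ℕ) (ex : List (Typ × ℕ)) (hv : t.Valid 2 k) (h : HasOrd t (2 ^ k) X)
    (hv' : s.Valid 2 j) (h' : IsTyp s (2 ^ j) X) (hn : s.D (2 ^ j) * n0 = (2 ^ j) ^ s.N * s.P (2 ^ j))
    (h1 : 2 ^ a ∣ n0) (h2 : ¬ 2 ^ (a + 1) ∣ n0) (hchk : chk n0 2 a ex = true) : (t, k) ∈ ex :=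
  mem_of_ord a ex hv h hv' (card_eq Nat.prime_two hv' h') hn h1 h2 hchk

/-- **The `C_p` list.** -/
theorem not_isCp [Group X] [Finite X] {p : ℕ} (hp : p.Prime) (hp2 : p ≠ 2) (hv : t.Valid 2 k) (h : HasOrd t (2 ^ k) X)
    (hn : NoComp X) (hex : ¬ ExC p t k) : ¬ IsCpSimple p X := by
  have ex3 : p = 3 → (t, k) ∉ ([(.L 2, 3), (.U 4, 1), (.U 5, 1), (.U 6, 1), (.S 3, 1), (.OP 4, 1), (.F4, 1),
    (.TD4, 1), (.S 2, 3)] : List (Typ × ℕ)) := fun h1 h2 => hex (Or.inl ⟨h1, h2⟩)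
  have ex5 : p = 5 → (t, k) ∉ ([(.L 2, 2), (.TF4, 5), (.SZ, 5)] : List (Typ × ℕ)) := fun h1 h2 =>
    hex (Or.inr (Or.inl ⟨h1, h2⟩))
  have ex7 : p = 7 → (t, k) ≠ (.L 3, 1) := fun h1 h2 => hex (Or.inr (Or.inr ⟨h1, h2⟩))
  rintro (h1 | ⟨n, hn, e⟩ | ⟨h2, -⟩ | ⟨h3, h1⟩ | ⟨h5, h1⟩ | ⟨-, h1⟩ | ⟨-, h1⟩)
  · rcases no_chev hv h hn hp hp2 h1 with ⟨h2, rfl, rfl⟩ | ⟨h2, rfl, rfl⟩ | ⟨h2, rfl, rfl⟩ | ⟨h2, rfl, rfl⟩
    · exact ex5 h2 (by simp)
    · exact ex7 h2 rfl
    · exact ex3 h2 (by simp)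
    · exact ex3 h2 (by simp)
  · have h3 : 3 ≤ p := by
      have := hp.two_le
      (clear * - hp2 this; omega)
    rcases Nat.lt_or_ge n 5 with h5 | h5
    · have h6 : n = 3 := by
        rcases hn with rfl | rfl | rfl
        · by_contra h7
          have h8 : n = 4 := by omega
          rw [h8] at hp
          exact absurd hp (by norm_num)
        · omega
        · omega
      subst h6
      have h6 := two_card_alt (by norm_num) e
      have h7 := dvd_card Nat.prime_two hv h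
      rw [show Nat.factorial 3 = 2 * 3 by decide] at h6
      have h8 : Nat.card X = 3 := by omega
      rw [h8] at h7
      have h9 : 2 ^ 1 ∣ 3 := (pow_dvd_pow 2 (Nat.mul_pos (one_le_k hv) (N_pos hv))).trans h7
      norm_num at h9
    · rcases no_alt hv h h5 e with ⟨rfl, rfl, rfl⟩ | ⟨rfl, -⟩
      · have h6 : p = 5 := by
          rcases hn with h6 | h6 | h6
          · exact h6.symm
          · omega
          · omega
        exact ex5 h6 (by simp)
      · rcases hn with h6 | h6 | h6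
        · rw [← h6] at hp
          exact absurd hp (by norm_num)
        · have h7 : p = 4 := by omega
          rw [h7] at hp
          exact absurd hp (by norm_num)
        · omega
  · exact hp2 h2
  · have ex := ex3 h3
    rcases h1 with ⟨F, _, _, hF, h1 | h1⟩ | ⟨F, _, _, hF, h1 | h1 | h1⟩ | ⟨F, _, _, hF, h1 | h1⟩ | h1 | h1 | h1 |
      h1 | h1 | h1 | h1 | h1 | h1 | h1 | h1 | h1 | h1 | h1 | h1 | h1 | h1
    · have h2 := mem_of_typ (n0 := 13685760) (s := .U 5) (j := 1) 10 [(.U 5, 1)] hv h (by decide) ⟨F, _, _, hF, h1⟩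
        (by decide +kernel) (by norm_num) (by norm_num) (by decide +kernel)
      simp at h2
      obtain ⟨rfl, rfl⟩ := h2
      exact ex (by simp)
    · have h2 := mem_of_typ (n0 := 9196830720) (s := .U 6) (j := 1) 15 [(.U 6, 1)] hv h (by decide) ⟨F, _, _, hF, h1⟩
        (by decide +kernel) (by norm_num) (by norm_num) (by decide +kernel)
      simp at h2
      obtain ⟨rfl, rfl⟩ := h2
      exact ex (by simp)
    · have h2 := mem_of_typ (n0 := 1451520) (s := .S 3) (j := 1) 9 [(.S 3, 1)] hv h (by decide) ⟨F, _, _, hF, h1⟩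
        (by decide +kernel) (by norm_num) (by norm_num) (by decide +kernel)
      simp at h2
      obtain ⟨rfl, rfl⟩ := h2
      exact ex (by simp)
    · have h2 := mem_of_typ (n0 := 174182400) (s := .OP 4) (j := 1) 12 [(.OP 4, 1)] hv h (by decide) ⟨F, _, _, hF, h1⟩
        (by decide +kernel) (by norm_num) (by norm_num) (by decide +kernel)
      simp at h2
      obtain ⟨rfl, rfl⟩ := h2
      exact ex (by simp)
    · have h2 := mem_of_typ (n0 := 3311126603366400) (s := .F4) (j := 1) 24 [(.F4, 1)] hv h (by decide) ⟨F, _, _, hF, h1⟩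
        (by decide +kernel) (by norm_num) (by norm_num) (by decide +kernel)
      simp at h2
      obtain ⟨rfl, rfl⟩ := h2
      exact ex (by simp)
    · have h2 := mem_of_typ (n0 := 211341312) (s := .TD4) (j := 1) 12 [(.TD4, 1)] hv h (by decide) ⟨F, _, _, hF, h1⟩
        (by decide +kernel) (by norm_num) (by norm_num) (by decide +kernel)
      simp at h2
      obtain ⟨rfl, rfl⟩ := h2
      exact ex (by simp)
    · have h2 := mem_of_typ (n0 := 1056706560) (s := .S 2) (j := 3) 12 [(.S 2, 3)] hv h (by decide) ⟨F, _, _, hF, h1⟩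
        (by decide +kernel) (by norm_num) (by norm_num) (by decide +kernel)
      simp at h2
      obtain ⟨rfl, rfl⟩ := h2
      exact ex (by simp)
    · exact no_tits hv h h1
    · exact no_m11 hv h (Orders.m11 h1)
    · exact no_j3 hv h (Orders.j3 h1)
    · exact no_co1 hv h (Orders.co1 h1)
    · exact no_co2 hv h (Orders.co2 h1)
    · exact no_co3 hv h (Orders.co3 h1)
    · exact no_mcl hv h (Orders.mcl h1)
    · exact no_ly hv h (Orders.ly h1)
    · exact no_suz hv h (Orders.suz h1)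
    · exact no_on hv h (Orders.on h1)
    · exact no_fi22 hv h (Orders.fi22 h1)
    · exact no_fi23 hv h (Orders.fi23 h1)
    · exact no_fi24 hv h (Orders.fi24 h1)
    · exact no_hn hv h (Orders.hn h1)
    · exact no_th hv h (Orders.th h1)
    · exact no_b hv h (Orders.b h1)
    · exact no_m hv h (Orders.m h1)
  · have ex := ex5 h5
    rcases h1 with h1 | ⟨F, _, _, hF, h1 | h1⟩ | h1 | h1 | h1 | h1 | h1 | h1 | h1 | h1 | h1 | h1 | h1 | h1 | h1
    · exact no_tits hv h h1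
    · have h2 := mem_of_typ (n0 := 1318633155799591447702161609782722560000) (s := .TF4) (j := 5) 60 [(.TF4, 5)] hv h (by decide) ⟨F, _, _, 2, hF, rfl, h1⟩
        (by decide +kernel) (by norm_num) (by norm_num) (by decide +kernel)
      simp at h2
      obtain ⟨rfl, rfl⟩ := h2
      exact ex (by simp)
    · have h2 := mem_of_typ (n0 := 32537600) (s := .SZ) (j := 5) 10 [(.SZ, 5)] hv h (by decide) ⟨F, _, _, 2, hF, rfl, h1⟩
        (by decide +kernel) (by norm_num) (by norm_num) (by decide +kernel)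
      simp at h2
      obtain ⟨rfl, rfl⟩ := h2
      exact ex (by simp)
    · exact no_j2 hv h (Orders.j2 h1)
    · exact no_co1 hv h (Orders.co1 h1)
    · exact no_co2 hv h (Orders.co2 h1)
    · exact no_co3 hv h (Orders.co3 h1)
    · exact no_hs hv h (Orders.hs h1)
    · exact no_mcl hv h (Orders.mcl h1)
    · exact no_ly hv h (Orders.ly h1)
    · exact no_ru hv h (Orders.ru h1)
    · exact no_he hv h (Orders.he h1)
    · exact no_hn hv h (Orders.hn h1)
    · exact no_th hv h (Orders.th h1)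
    · exact no_b hv h (Orders.b h1)
    · exact no_m hv h (Orders.m h1)
  · rcases h1 with h1 | h1 | h1 | h1 | h1 | h1
    · exact no_co1 hv h (Orders.co1 h1)
    · exact no_he hv h (Orders.he h1)
    · exact no_on hv h (Orders.on h1)
    · exact no_fi24 hv h (Orders.fi24 h1)
    · exact no_th hv h (Orders.th h1)
    · exact no_m hv h (Orders.m h1)
  · exact no_j4 hv h (Orders.j4 h1)

/-- `L_3(2 ^ j)`, `U_3(2 ^ j)` against the other families -/
theorem no_lu3 (hv : t.Valid 2 k) (h : HasOrd t (2 ^ k) X) (hs : s = .L 3 ∨ s = .U 3) (hv' : s.Valid 2 j)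
    (h' : HasOrd s (2 ^ j) X) (h3 : t ≠ .L 3) (h4 : t ≠ .U 3) : j ≤ 4 := by
  have hN : s.N = 3 := by rcases hs with rfl | rfl <;> rfl
  have hj := one_le_k hv'
  have ha : k * t.N = j * 3 := by
    have h5 := T_card_typ hv h
    have h6 := T_card_typ hv' h'
    rw [h5, hN] at h6
    exact Nat.pow_right_injective (le_refl 2) h6
  by_contra hlt
  have h8 : 4 ≤ 2 ^ j := by
    calc 4 = 2 ^ 2 := by norm_num
      _ ≤ _ := Nat.pow_le_pow_right (by norm_num) (by omega)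
  by_cases h2 : t = .L 2
  · subst h2
    have h9 := card_le_eight Nat.prime_two hv' h' (by rcases hs with rfl | rfl <;> simp)
      (by rcases hs with rfl | rfl <;> simp)
    have h10 : Typ.D (.L 2) (2 ^ k) * Nat.card X = (2 ^ k) ^ Typ.N (.L 2) * Typ.P (.L 2) (2 ^ k) := h
    have hk : k = j * 3 := by simpa [Typ.N] using ha
    have h11 : Nat.gcd 2 (2 ^ k - 1) = 1 := by
      rw [← Nat.coprime_iff_gcd_eq_one]
      exact cop_pred Nat.prime_two (dvd_pow_self 2 (by omega)) (by positivity)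
    rw [show Typ.D (.L 2) (2 ^ k) = 1 from h11, one_mul] at h10
    have h12 : Nat.card X = 2 ^ k * ((2 ^ k) ^ 2 - 1) := by simpa only [Typ.N, Typ.P, pA, _root_.Nat.add_one_sub_one, _root_.mul_one, _root_.Order.lt_two_iff, _root_.zero_le, _root_.Nat.div_self, _root_.pow_one, _root_.zero_add, _root_.one_mul] using h10
    rw [hN, ← hk, h12] at h9
    have h13 : 16 ≤ 2 ^ k := by
      calc 16 = 2 ^ 4 := by norm_num
        _ ≤ _ := Nat.pow_le_pow_right (by norm_num) (by omega)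
    generalize 2 ^ k = q at h9 h13
    have h14 : q ^ 2 ≤ 2 * (q ^ 2 - 1) := by
      have : 16 ^ 2 ≤ q ^ 2 := Nat.pow_le_pow_left h13 2
      omega
    have h15 : q ^ 9 ≤ 8 * q ^ 8 := by
      calc q ^ 9 = (q * q ^ 2) ^ 3 := by ring
        _ ≤ (q * (2 * (q ^ 2 - 1))) ^ 3 := Nat.pow_le_pow_left (Nat.mul_le_mul_left _ h14) 3
        _ = 8 * (q * (q ^ 2 - 1)) ^ 3 := by ring
        _ ≤ _ := Nat.mul_le_mul_left _ h9
    have h16 : q * q ^ 8 ≤ 8 * q ^ 8 := by
      calc q * q ^ 8 = q ^ 9 := by ring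
        _ ≤ _ := h15
    have h17 := Nat.le_of_mul_le_mul_right h16 (pow_pos (by omega) 8)
    omega
  · have h9 := card_le_five Nat.prime_two hv h h2 h3 h4 (by
      rintro rfl
      exact absurd hv.1 (by norm_num))
    have h10 := le_card_three h' hs h8
    rw [ha] at h9
    rw [hN] at h10
    have h11 : ((2 ^ (j * 3)) ^ 8) ^ 2 ≤ 64 ^ 2 * ((2 ^ (j * 3)) ^ 5) ^ 3 := by
      calc ((2 ^ (j * 3)) ^ 8) ^ 2 ≤ (64 * Nat.card X ^ 3) ^ 2 := Nat.pow_le_pow_left h10 2
        _ = 64 ^ 2 * (Nat.card X ^ 2) ^ 3 := by ring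
        _ ≤ _ := Nat.mul_le_mul_left _ (Nat.pow_le_pow_left h9 3)
    have h12 : 2 ^ (j * 3) * (2 ^ (j * 3)) ^ 15 ≤ 2 ^ 12 * (2 ^ (j * 3)) ^ 15 := by
      calc 2 ^ (j * 3) * (2 ^ (j * 3)) ^ 15 = ((2 ^ (j * 3)) ^ 8) ^ 2 := by ring
        _ ≤ _ := h11
        _ = _ := by ring
    have h13 : 2 ^ (j * 3) ≤ 2 ^ 12 := Nat.le_of_mul_le_mul_right h12 (by positivity)
    have h14 := (Nat.pow_le_pow_iff_right (by norm_num)).1 h13
    omega

/-- **`L_3(2 ^ j)`, `U_3(2 ^ j)`** -/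
theorem eq_lu3 (hv : t.Valid 2 k) (h : HasOrd t (2 ^ k) X) (hs : (s = .L 3 ∧ 2 ^ j % 3 = 1) ∨ (s = .U 3 ∧ 2 ^ j % 3 = 2))
    (hv' : s.Valid 2 j) (h' : HasOrd s (2 ^ j) X) : t = .L 3 ∨ t = .U 3 ∨ (t, k) = (.L 4, 1) := by
  by_contra hne
  have h3 : t ≠ .L 3 := fun h => hne (Or.inl h)
  have h4 : t ≠ .U 3 := fun h => hne (Or.inr (Or.inl h))
  have h5 : (t, k) ≠ (.L 4, 1) := fun h => hne (Or.inr (Or.inr h))
  have hj := no_lu3 hv h (hs.imp And.left And.left) hv' h' h3 h4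
  have hj1 := one_le_k hv'
  rcases hs with ⟨rfl, hs⟩ | ⟨rfl, hs⟩
  · have hj2 : j = 2 ∨ j = 4 := by
      by_contra hne
      have hj3 : j = 1 ∨ j = 3 := by omega
      rcases hj3 with rfl | rfl <;> norm_num at hs
    rcases hj2 with rfl | rfl
    · have h2 := mem_of_ord (n0 := 20160) 6 [(.L 4, 1), (.L 3, 2)] hv h hv' h' (by decide +kernel) (by norm_num)
        (by norm_num) (by decide +kernel)
      simp at h2
      rcases h2 with h2 | h2
      · exact h5 (by rw [h2.1, h2.2])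
      · exact h3 h2.1
    · have h2 := mem_of_ord (n0 := 1425715200) 12 [(.L 3, 4)] hv h hv' h' (by decide +kernel) (by norm_num)
        (by norm_num) (by decide +kernel)
      simp at h2
      exact h3 h2.1
  · have hj2 : j = 1 ∨ j = 3 := by
      by_contra hne
      have hj3 : j = 2 ∨ j = 4 := by omega
      rcases hj3 with rfl | rfl <;> norm_num at hs
    rcases hj2 with rfl | rfl
    · exact absurd hv' (by decide)
    · have h2 := mem_of_ord (n0 := 5515776) 9 [(.U 3, 3)] hv h hv' h' (by decide +kernel) (by norm_num)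
        (by norm_num) (by decide +kernel)
      simp at h2
      exact h4 h2.1

/-- the list for `T_3` -/
theorem not_T3 [Group X] [Finite X] (hv : t.Valid 2 k) (h : HasOrd t (2 ^ k) X) (hn : NoComp X) (hex : ¬ ExT 3 t k) :
    (¬ ∃ (F : Type) (_ : Field F) (_ : Fintype F), Fintype.card F % 3 = 1 ∧
        Nonempty (X ≃* Matrix.ProjectiveSpecialLinearGroup (Fin 3) F)) ∧
      (¬ ∃ (F : Type) (_ : Field F) (_ : Fintype F) (q : ℕ), Fintype.card F = q ^ 2 ∧ q % 3 = 2 ∧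
        Nonempty (X ≃* PSU 3 F q)) := by
  have h3 : t ≠ .L 3 := fun h => hex ⟨rfl, Or.inl h⟩
  have h4 : t ≠ .U 3 := fun h => hex ⟨rfl, Or.inr (Or.inl h)⟩
  have h5 : (t, k) ≠ (.L 4, 1) := fun h => hex ⟨rfl, Or.inr (Or.inr (Or.inr h))⟩
  have key : ¬ (t = .L 3 ∨ t = .U 3 ∨ (t, k) = (.L 4, 1)) := by
    rintro (h1 | h1 | h1)
    · exact h3 h1
    · exact h4 h1
    · exact h5 h1
  constructor
  · rintro ⟨F, _, _, h1, e⟩
    obtain ⟨r, hr⟩ := CharP.exists F
    have hrp : r.Prime := (CharP.char_is_prime_or_zero F r).resolve_right (CharP.char_ne_zero_of_finite F r)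
    obtain ⟨j, hj, hF⟩ := card_pow F r
    have hv' : Typ.Valid r (.L 3) j := ⟨hj, by norm_num, by norm_num⟩
    have h' : IsTyp (.L 3) (r ^ j) X := ⟨F, _, _, hF, e⟩
    by_cases hr2 : r = 2
    · subst hr2
      exact key (eq_lu3 hv h (Or.inl ⟨rfl, hF ▸ h1⟩) hv' (card_eq hrp hv' h'))
    · rcases inter hv h hn hrp hr2 hv' h' with ⟨-, h2, -⟩ | ⟨-, h2, -⟩ | ⟨-, h2, -⟩
      · simp at h2
      · simp at h2
      · simp at h2
  · rintro ⟨F, _, _, q, hF, h1, e⟩
    obtain ⟨r, hr⟩ := CharP.exists F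
    have hrp : r.Prime := (CharP.char_is_prime_or_zero F r).resolve_right (CharP.char_ne_zero_of_finite F r)
    obtain ⟨a, ha, hFa⟩ := card_pow F r
    obtain ⟨j, hj, rfl⟩ := exists_root hrp two_ne_zero ha (hF.symm.trans hFa)
    have h' : IsTyp (.U 3) (r ^ j) X := ⟨F, _, _, hF, e⟩
    by_cases hv' : Typ.Valid r (.U 3) j
    · by_cases hr2 : r = 2
      · subst hr2
        exact key (eq_lu3 hv h (Or.inr ⟨rfl, h1⟩) hv' (card_eq hrp hv' h'))
      · rcases inter hv h hn hrp hr2 hv' h' with ⟨-, h2, -⟩ | ⟨-, h2, -⟩ | ⟨-, h2, -⟩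
        · simp at h2
        · simp at h2
        · simp at h2
    · -- `U_3(2)`
      have h2 : r ^ j = 2 := by
        by_contra h2
        exact hv' ⟨hj, by norm_num, fun h3 => h2 h3.2⟩
      rw [h2] at hF e
      obtain ⟨e⟩ := e
      have h6 := Cfsg.Agent.S0280.result hF 3 (by norm_num)
      rw [← Nat.card_congr e.toEquiv] at h6
      have h7 : Nat.card X = 72 := by
        simp only [Finset.prod_range_succ, Nat.even_add_one, _root_.Nat.reduceAdd, _root_.Nat.gcd_self, _root_.Nat.add_one_sub_one, _root_.Nat.reduceMul, _root_.Nat.reduceDiv, _root_.Nat.reducePow, _root_.Finset.prod_range_succ, _root_.Finset.range_one, _root_.Finset.prod_singleton, _root_.Even.zero, ↓ _root_.reduceIte, _root_.zero_add, _root_.pow_one, _root_.Nat.even_add_one, _root_.not_true_eq_false, _root_.even_two] at h6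
        omega
      have h8 := typ_mem Nat.prime_two hv h h7 (a := 3) (by norm_num) (by norm_num) (ex := []) (by decide +kernel)
      simp at h8

end

section

variable {K : Type u} [Group K] [Finite K] {t s : Typ} {p k j : ℕ}

/-- **`K` is not a `C_p`-group.** -/
theorem not_inC (hp : p.Prime) (hp2 : p ≠ 2) (hv : t.Valid 2 k) (h : HasOrd t (2 ^ k) (K ⧸ center K))
    (hn : NoComp (K ⧸ center K)) (hex : ¬ ExC p t k) : ¬ InC p K := fun h1 =>
  not_isCp hp hp2 hv h hn hex h1.2.2.1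

/-- **`K` is not a `T_p`-group.** -/
theorem not_inT (hp2 : p ≠ 2) (hv : t.Valid 2 k) (h : HasOrd t (2 ^ k) (K ⧸ center K))
    (hn : NoComp (K ⧸ center K)) (hex : ¬ ExT p t k) (hr : ¬ PRankLE p 1 K) : ¬ InT p K := by
  rintro ⟨-, hc, -, -, ⟨h1, -⟩ | ⟨rfl, h1⟩ | ⟨rfl, h1⟩ | ⟨-, h1, -⟩⟩
  · exact hp2 h1
  · have h2 := not_T3 hv h hn hex
    rcases h1 with h1 | h1 | h1 | h1 | h1 | h1 | ⟨F, _, _, hF, h1⟩ | ⟨-, h1⟩
    · exact h2.1 h1
    · exact h2.2 h1
    · rcases no_alt hv h (by norm_num) h1 with ⟨h3, -⟩ | ⟨h3, -⟩ <;> norm_num at h3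
    · exact no_m12 hv h (Orders.m12 h1)
    · exact no_m22 hv h (Orders.m22 h1)
    · exact no_j2 hv h (Orders.j2 h1)
    · have h2 := mem_of_typ (n0 := 4329310519296) (s := .G2) (j := 3) 18 [(.G2, 3)] hv h (by decide) ⟨F, _, _, hF, h1⟩
        (by decide +kernel) (by norm_num) (by norm_num) (by decide +kernel)
      simp at h2
      obtain ⟨rfl, rfl⟩ := h2
      exact hex ⟨rfl, Or.inr (Or.inr (Or.inl rfl))⟩
    · rcases no_alt hv h (by norm_num) h1 with ⟨h3, -⟩ | ⟨h3, -⟩ <;> norm_num at h3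
  · -- `Fi_22`
    have h2 := Orders.fi22 h1
    have h3 := Subgroup.card_eq_card_quotient_mul_card_subgroup (center K)
    have : Fact (Nat.Prime 5) := ⟨by norm_num⟩
    obtain ⟨n, hn5⟩ := IsPGroup.iff_card.1 hc
    rw [h2, hn5] at h3
    have hn2 : n ≤ 2 := by
      by_contra hlt
      have h4 : 5 ^ 3 ∣ 64561751654400 := (pow_dvd_pow 5 (by omega)).trans (h3 ▸ Dvd.intro_left _ rfl)
      norm_num at h4
    interval_cases n
    · exact no_fi22 hv h (by omega)
    · exact no_card 17 hv h (n0 := 12912350330880) (by omega) (by norm_num) (by norm_num) (by decide +kernel)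
    · exact no_card 17 hv h (n0 := 2582470066176) (by omega) (by norm_num) (by norm_num) (by decide +kernel)
  · exact hr h1

end

end Cfsg.Agent.NotCT

end

-- merged: Cfsg.Agent.NotCT.Fam
section

/-!
# Families of characteristic 2 against `C_p`, `T_p`, `p` odd (helper77)

* `noComp_of_chev` : `L_2(X)` is empty for `X` in `Chev(2)` (S1787);
* `notCT_of_typ` : `K / Z(K) ≅ t(2 ^ k)`; `notCT_of_simple` : `K ≅ t(2 ^ k)`;
* the families: `psl_quot`, `psl`, `psp_quot`, `psp`, `psu_quot`, `psu`, `omegaPlus_quot`, `omegaPlus`,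
  `omegaMinus_quot`, `omegaMinus`, and `exc` for the exceptional families.
-/

set_option autoImplicit false

namespace Cfsg.Agent.NotCT

open Subgroup Cfsg
open scoped commutatorElement

universe u

/-- S1787 -/
theorem noComp_of_chev {X : Type u} [Group X] [Finite X] [IsSimpleGroup X] (hc : ¬ IsMulCommutative X)
    (h : IsChevSimple 2 X) : NoComp X := fun x hx K hK => (Cfsg.Agent.S1787.result hc h).1 x hx K hK

/-! ### Quasisimple groups -/

section

variable {K : Type u} [Group K]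

/-- the quotient of a quasisimple group is not abelian -/
theorem not_comm_quot (h : IsQuasisimple K) : ¬ IsMulCommutative (K ⧸ center K) := by
  intro hc
  have hs := h.2
  have hp : commutator K = ⊤ := h.1.commutator_eq_top
  have h1 : commutator K ≤ center K := by
    rw [commutator_def, Subgroup.commutator_le]
    intro a _ b _
    rw [← QuotientGroup.eq_one_iff]
    have h2 : ((a : K) : K ⧸ center K) * (b : K ⧸ center K) = (b : K ⧸ center K) * (a : K ⧸ center K) :=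
      hc.is_comm.comm _ _
    have h3 : ((⁅a, b⁆ : K) : K ⧸ center K) = (a : K ⧸ center K) * b * (a : K ⧸ center K)⁻¹ * (b : K ⧸ center K)⁻¹ := rfl
    rw [h3, h2]
    group
  rw [hp] at h1
  obtain ⟨x, hx⟩ := exists_ne (1 : K ⧸ center K)
  obtain ⟨y, rfl⟩ := QuotientGroup.mk_surjective x
  exact hx ((QuotientGroup.eq_one_iff y).2 (h1 (mem_top y)))

/-- a simple quasisimple group has trivial centre -/
theorem center_eq_bot_of_simple [hs : IsSimpleGroup K] (h : IsQuasisimple K) : center K = ⊥ := by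
  rcases (inferInstance : (center K).Normal).eq_bot_or_eq_top with h1 | h1
  · exact h1
  · exfalso
    apply not_comm_quot h
    refine ⟨⟨fun x y => ?_⟩⟩
    obtain ⟨a, rfl⟩ := QuotientGroup.mk_surjective x
    obtain ⟨b, rfl⟩ := QuotientGroup.mk_surjective y
    have h2 : a ∈ center K := h1 ▸ mem_top a
    rw [← QuotientGroup.mk_mul, ← QuotientGroup.mk_mul, (mem_center_iff.1 h2 b)]

end

section

variable {K : Type u} [Group K] [Finite K] {t : Typ} {p k : ℕ}

theorem noComp_quot (hv : t.Valid 2 k) (h : IsTyp t (2 ^ k) (K ⧸ center K)) (hq : IsQuasisimple K) :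
    NoComp (K ⧸ center K) := by
  have := hq.2
  exact noComp_of_chev (not_comm_quot hq) (Or.inl (lie_of_typ Nat.prime_two hv h))

/-- **`K / Z(K) ≅ t(2 ^ k)`** -/
theorem notCT_of_typ (hp : p.Prime) (hp2 : p ≠ 2) (hv : t.Valid 2 k) (h : IsTyp t (2 ^ k) (K ⧸ center K))
    (hex : ¬ ExC p t k) (hex' : ¬ ExT p t k) (hr : ¬ PRankLE p 1 K) : ¬ InC p K ∧ ¬ InT p K :=
  ⟨fun h1 => not_inC hp hp2 hv (card_eq Nat.prime_two hv h) (noComp_quot hv h h1.1) hex h1,
    fun h1 => not_inT hp2 hv (card_eq Nat.prime_two hv h) (noComp_quot hv h h1.1) hex' hr h1⟩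

/-- **`K ≅ t(2 ^ k)`** -/
theorem notCT_of_simple [IsSimpleGroup K] (hp : p.Prime) (hp2 : p ≠ 2) (hv : t.Valid 2 k) (h : IsTyp t (2 ^ k) K)
    (hex : ¬ ExC p t k) (hex' : ¬ ExT p t k) (hr : ¬ PRankLE p 1 K) : ¬ InC p K ∧ ¬ InT p K := by
  have key : IsQuasisimple K → IsTyp t (2 ^ k) (K ⧸ center K) := fun hq =>
    h.congr ((QuotientGroup.quotientMulEquivOfEq (center_eq_bot_of_simple hq)).trans QuotientGroup.quotientBot).symm
  exact ⟨fun h1 => (notCT_of_typ hp hp2 hv (key h1.1) hex hex' hr).1 h1,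
    fun h1 => (notCT_of_typ hp hp2 hv (key h1.1) hex hex' hr).2 h1⟩

omit [Finite K] in
theorem rank_mono {a b : ℕ} (hp : p.Prime) (hab : a ≤ b) (h : ¬ PRankLE p b K) : ¬ PRankLE p a K := fun h1 =>
  h fun A hA hA' => (h1 A hA hA').trans (Nat.pow_le_pow_right hp.pos hab)

theorem pow_dvd_of_rank (hp : p.Prime) {a : ℕ} (h : ¬ PRankLE p a K) : p ^ (a + 1) ∣ Nat.card K := by
  unfold PRankLE at h
  push Not at h
  obtain ⟨A, -, hA, hc⟩ := h
  have : Fact p.Prime := ⟨hp⟩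
  have h1 : IsPGroup p ↥A := fun x => ⟨1, by
    apply Subtype.ext
    rw [pow_one]
    exact hA x x.2⟩
  obtain ⟨n, hn⟩ := IsPGroup.iff_card.1 h1
  rw [hn] at hc
  have h2 : a < n := (Nat.pow_lt_pow_iff_right hp.one_lt).1 hc
  exact (pow_dvd_pow p h2).trans (hn ▸ card_subgroup_dvd_card A)

end

/-! ### Fields of characteristic 2 -/

theorem exists_card_even {F : Type*} [Field F] [Fintype F] (h : Even (Fintype.card F)) :
    ∃ k, 1 ≤ k ∧ Fintype.card F = 2 ^ k := by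
  have h1 : ringChar F = 2 := FiniteField.even_card_iff_char_two.2 (Nat.even_iff.1 h)
  have : CharP F 2 := h1 ▸ ringChar.charP F
  exact card_pow F 2

theorem exists_card_even_pow {F : Type*} [Field F] [Fintype F] {q n : ℕ} (hn : n ≠ 0) (hF : Fintype.card F = q ^ n)
    (h : Even q) : ∃ k, 1 ≤ k ∧ q = 2 ^ k := by
  obtain ⟨a, ha, h1⟩ := exists_card_even (F := F) (by rw [hF]; exact h.pow_of_ne_zero hn)
  exact exists_root Nat.prime_two hn ha (hF.symm.trans h1)

/-! ### The families -/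

section

variable {K : Type u} [Group K] [Finite K] {F : Type} [Field F] [Fintype F] {p m q : ℕ}

/-- `K / Z(K) ≅ L_m(q)` -/
theorem psl_quot (hF : Even (Fintype.card F)) (hp : p.Prime) (hp2 : p ≠ 2) (hm : 3 ≤ m)
    (h3 : p = 3 → 4 ≤ m ∧ (Fintype.card F = 2 → m ≠ 4)) (h7 : p = 7 → Fintype.card F = 2 → m ≠ 3)
    (hr : ¬ PRankLE p 1 K) (e : Nonempty (K ⧸ center K ≃* Matrix.ProjectiveSpecialLinearGroup (Fin m) F)) :
    ¬ InC p K ∧ ¬ InT p K := by
  obtain ⟨k, hk, hFk⟩ := exists_card_even hF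
  have hq : k = 1 → Fintype.card F = 2 := fun h => by rw [hFk, h, pow_one]
  refine notCT_of_typ (t := .L m) (k := k) hp hp2 ⟨hk, by omega, by omega⟩ ⟨F, _, _, hFk, e⟩ ?_ ?_ hr
  · rintro (⟨-, h⟩ | ⟨-, h⟩ | ⟨h1, h⟩)
    · simp at h; omega
    · simp at h; omega
    · simp at h
      exact h7 h1 (hq h.2) h.1
  · rintro ⟨h1, h | h | h | h⟩
    · simp at h
      have := (h3 h1).1
      omega
    · simp at h
    · simp at h
    · simp at h
      exact (h3 h1).2 (hq h.2) h.1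

/-- `K ≅ L_m(q)` -/
theorem psl (hF : Even (Fintype.card F)) (hp : p.Prime) (hp2 : p ≠ 2) (hm : 3 ≤ m)
    (h3 : p = 3 → 4 ≤ m ∧ (Fintype.card F = 2 → m ≠ 4)) (h7 : p = 7 → Fintype.card F = 2 → m ≠ 3)
    (hr : ¬ PRankLE p 1 K) (e : Nonempty (K ≃* Matrix.ProjectiveSpecialLinearGroup (Fin m) F)) :
    ¬ InC p K ∧ ¬ InT p K := by
  obtain ⟨k, hk, hFk⟩ := exists_card_even hF
  have hq : k = 1 → Fintype.card F = 2 := fun h => by rw [hFk, h, pow_one]
  have hs : IsSimpleGroup K := by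
    obtain ⟨e⟩ := e
    have := Cfsg.Agent.S0249.result (F := F) m hm
    exact MulEquiv.isSimpleGroup e
  refine notCT_of_simple (t := .L m) (k := k) hp hp2 ⟨hk, by omega, by omega⟩ ⟨F, _, _, hFk, e⟩ ?_ ?_ hr
  · rintro (⟨-, h⟩ | ⟨-, h⟩ | ⟨h1, h⟩)
    · simp at h; omega
    · simp at h; omega
    · simp at h
      exact h7 h1 (hq h.2) h.1
  · rintro ⟨h1, h | h | h | h⟩
    · simp at h
      have := (h3 h1).1
      omega
    · simp at h
    · simp at h
    · simp at h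
      exact (h3 h1).2 (hq h.2) h.1

/-- the form of GpLn -/
theorem ln {k : ℕ} (hF : Fintype.card F = 2 ^ k) (hp : p.Prime) (hp2 : p ≠ 2) (hm : 3 ≤ m) (hk : 2 ≤ k ∨ 6 ≤ m)
    (h3 : p = 3 → 4 ≤ m) (hr : ¬ PRankLE p 1 K)
    (e : Nonempty (K ⧸ center K ≃* Matrix.ProjectiveSpecialLinearGroup (Fin m) F)) : ¬ InC p K ∧ ¬ InT p K := by
  have hk1 : k ≠ 0 := by
    rintro rfl
    have := Fintype.one_lt_card (α := F)
    omega
  have h1 : 2 ≤ k → Fintype.card F ≠ 2 := fun h2 h4 => by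
    have : 2 ^ 2 ≤ 2 ^ k := Nat.pow_le_pow_right (by norm_num) h2
    omega
  refine psl_quot (by rw [hF]; exact even_iff_two_dvd.2 (dvd_pow_self 2 hk1)) hp hp2 hm
    (fun h => ⟨h3 h, fun h2 h4 => ?_⟩) (fun _ h2 h4 => ?_) hr e
  · rcases hk with hk | hk
    · exact h1 hk h2
    · omega
  · rcases hk with hk | hk
    · exact h1 hk h2
    · omega

/-- `K / Z(K) ≅ U_m(q)` -/
theorem psu_quot (hF : Fintype.card F = q ^ 2) (hq : Even q) (hp : p.Prime) (hp2 : p ≠ 2) (hm : 4 ≤ m)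
    (h3 : p = 3 → ¬ (q = 2 ∧ m ≤ 6)) (hr : ¬ PRankLE p 1 K) (e : Nonempty (K ⧸ center K ≃* PSU m F q)) :
    ¬ InC p K ∧ ¬ InT p K := by
  obtain ⟨k, hk, rfl⟩ := exists_card_even_pow two_ne_zero hF hq
  refine notCT_of_typ (t := .U m) (k := k) hp hp2 ⟨hk, by omega, by omega⟩ ⟨F, _, _, hF, e⟩ ?_ ?_ hr
  · rintro (⟨h1, h⟩ | ⟨-, h⟩ | ⟨h1, h⟩)
    · simp at h
      have : k = 1 ∧ m ≤ 6 := by omega
      exact h3 h1 ⟨by rw [this.1, pow_one], this.2⟩
    · simp at h
    · simp at h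
  · rintro ⟨h1, h | h | h | h⟩
    · simp at h
    · simp at h
      omega
    · simp at h
    · simp at h

/-- `K ≅ U_m(q)` -/
theorem psu (hF : Fintype.card F = q ^ 2) (hq : Even q) (hp : p.Prime) (hp2 : p ≠ 2) (hm : 4 ≤ m)
    (h3 : p = 3 → ¬ (q = 2 ∧ m ≤ 6)) (hr : ¬ PRankLE p 1 K) (e : Nonempty (K ≃* PSU m F q)) :
    ¬ InC p K ∧ ¬ InT p K := by
  have hs : IsSimpleGroup K := by
    obtain ⟨e⟩ := e
    have := Cfsg.Agent.S0283.result hF m (by omega) (by omega)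
    exact MulEquiv.isSimpleGroup e
  obtain ⟨k, hk, rfl⟩ := exists_card_even_pow two_ne_zero hF hq
  refine notCT_of_simple (t := .U m) (k := k) hp hp2 ⟨hk, by omega, by omega⟩ ⟨F, _, _, hF, e⟩ ?_ ?_ hr
  · rintro (⟨h1, h⟩ | ⟨-, h⟩ | ⟨h1, h⟩)
    · simp at h
      have : k = 1 ∧ m ≤ 6 := by omega
      exact h3 h1 ⟨by rw [this.1, pow_one], this.2⟩
    · simp at h
    · simp at h
  · rintro ⟨h1, h | h | h | h⟩
    · simp at h
    · simp at h
      omega
    · simp at h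
    · simp at h

/-- `K ≅ PSp_2m(q)` -/
theorem psp (hF : Even (Fintype.card F)) (hp : p.Prime) (hp2 : p ≠ 2) (hm : 2 ≤ m)
    (h2 : m = 2 → Fintype.card F ≠ 2) (h3 : p = 3 → ¬ (m = 3 ∧ Fintype.card F = 2) ∧ ¬ (m = 2 ∧ Fintype.card F = 8))
    (hr : ¬ PRankLE p 1 K) (e : Nonempty (K ≃* PSp m F)) : ¬ InC p K ∧ ¬ InT p K := by
  obtain ⟨k, hk, hFk⟩ := exists_card_even hF
  have hq : k = 1 → Fintype.card F = 2 := fun h => by rw [hFk, h, pow_one]
  have h5 : m = 2 → 3 ≤ Fintype.card F := by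
    intro h
    have h4 : k ≠ 1 := fun h5 => h2 h (hq h5)
    rw [hFk]
    calc 3 ≤ 2 ^ 2 := by norm_num
      _ ≤ _ := Nat.pow_le_pow_right (by norm_num) (by omega)
  have hs : IsSimpleGroup K := by
    obtain ⟨e⟩ := e
    have := Cfsg.Agent.S0270.result (F := F) m hm h5
    exact MulEquiv.isSimpleGroup e
  refine notCT_of_simple (t := .S m) (k := k) hp hp2 ⟨hk, hm, fun h => hFk ▸ h5 h⟩ ⟨F, _, _, hFk, e⟩ ?_ ?_ hr
  · rintro (⟨h1, h⟩ | ⟨-, h⟩ | ⟨h1, h⟩)
    · simp at h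
      rcases h with h | h
      · exact (h3 h1).1 ⟨h.1, hq h.2⟩
      · exact (h3 h1).2 ⟨h.1, by rw [hFk, h.2]; norm_num⟩
    · simp at h
    · simp at h
  · rintro ⟨h1, h | h | h | h⟩ <;> simp at h

/-- `K ≅ PΩ⁺_2m(q)` -/
theorem omegaPlus (hF : Even (Fintype.card F)) (hp : p.Prime) (hp2 : p ≠ 2) (hm : 4 ≤ m)
    (h3 : ¬ (m = 4 ∧ Fintype.card F = 2 ∧ p = 3)) (hr : ¬ PRankLE p 1 K)
    (e : Nonempty (K ≃* POmega F (quadFormPlus m F))) : ¬ InC p K ∧ ¬ InT p K := by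
  obtain ⟨k, hk, hFk⟩ := exists_card_even hF
  have hq : k = 1 → Fintype.card F = 2 := fun h => by rw [hFk, h, pow_one]
  have hs : IsSimpleGroup K := by
    obtain ⟨e⟩ := e
    have := Cfsg.Agent.S0296.result (F := F) m hm
    exact MulEquiv.isSimpleGroup e
  refine notCT_of_simple (t := .OP m) (k := k) hp hp2 ⟨hk, hm⟩ ⟨F, _, _, hFk, e⟩ ?_ ?_ hr
  · rintro (⟨h1, h⟩ | ⟨-, h⟩ | ⟨h1, h⟩)
    · simp at h
      exact h3 ⟨h.1, hq h.2, h1⟩
    · simp at h
    · simp at h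
  · rintro ⟨h1, h | h | h | h⟩ <;> simp at h

/-- `K ≅ PΩ⁻_2m(q)` -/
theorem omegaMinus {a b : F} (hF : Even (Fintype.card F)) (hp : p.Prime) (hp2 : p ≠ 2) (hm : 4 ≤ m)
    (hab : ∀ z₁ z₂ : F, z₁ ^ 2 + a * z₁ * z₂ + b * z₂ ^ 2 = 0 → z₁ = 0 ∧ z₂ = 0) (hr : ¬ PRankLE p 1 K)
    (e : Nonempty (K ≃* POmega F (quadFormMinus (m - 1) F a b))) : ¬ InC p K ∧ ¬ InT p K := by
  obtain ⟨k, hk, hFk⟩ := exists_card_even hF
  have hs : IsSimpleGroup K := by
    obtain ⟨e⟩ := e
    have := Cfsg.Agent.S0297.result (F := F) m hm a b hab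
    exact MulEquiv.isSimpleGroup e
  refine notCT_of_simple (t := .OM m) (k := k) hp hp2 ⟨hk, hm⟩ ⟨F, _, _, a, b, hFk, hab, e⟩ ?_ ?_ hr
  · rintro (⟨h1, h⟩ | ⟨-, h⟩ | ⟨h1, h⟩) <;> simp at h
  · rintro ⟨h1, h | h | h | h⟩ <;> simp at h

end

/-! ### The statements asked for by the rows -/

/-- `GpSp.Row.NonIso` -/
theorem sp_nonIso (F : Type) [Field F] [Fintype F] (m p : ℕ) (hF : Even (Fintype.card F)) (hm : 3 ≤ m)
    (h2 : Fintype.card F = 2 → 4 ≤ m) (hp : p.Prime) (hp2 : p ≠ 2) (K : Type u) [Group K] [Finite K]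
    (e : Nonempty (K ≃* PSp m F)) (hr : ¬ PRankLE p 1 K) : ¬ InC p K ∧ ¬ InT p K :=
  psp hF hp hp2 (by omega) (by omega) (fun _ => ⟨fun h => by have := h2 h.2; omega, by omega⟩) hr e

/-- `GpUn.Row.NonIso` -/
theorem un_nonIso (F : Type) [Field F] [Fintype F] (q m p : ℕ) (hF : Fintype.card F = q ^ 2) (hq : Even q)
    (hm : 4 ≤ m) (h3 : p = 3 → ¬ (q = 2 ∧ m ≤ 6)) (hp : p.Prime) (hp2 : p ≠ 2) (X : Type u) [Group X] [Finite X]
    (hr : ¬ PRankLE p 1 X) (e : Nonempty (X ⧸ center X ≃* PSU m F q)) : ¬ InC p X ∧ ¬ InT p X :=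
  psu_quot hF hq hp hp2 hm h3 hr e

/-- `GpOm.Row.NonIso.psl` -/
theorem om_psl (F : Type) [Field F] [Fintype F] (p : ℕ) (hF : Even (Fintype.card F)) (hp : p.Prime) (hp2 : p ≠ 2)
    (K : Type u) [Group K] [Finite K] (e : Nonempty (K ≃* Matrix.ProjectiveSpecialLinearGroup (Fin 4) F))
    (hr : ¬ PRankLE p 2 K) : ¬ InC p K ∧ ¬ InT p K := by
  refine psl hF hp hp2 (by norm_num) (fun h => ⟨le_rfl, fun h2 _ => ?_⟩) (fun _ _ => by norm_num)
    (rank_mono hp (by norm_num) hr) e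
  -- `A_8` has 3-rank 2
  subst h
  have h3 := pow_dvd_of_rank hp hr
  have h4 : IsTyp (.L 4) (2 ^ 1) K := ⟨F, _, _, by rw [h2, pow_one], e⟩
  have h5 := card_eq Nat.prime_two (by decide) h4
  have h6 : Nat.card K = 20160 := by
    have h7 : Typ.D (.L 4) (2 ^ 1) * Nat.card K = (2 ^ 1) ^ Typ.N (.L 4) * Typ.P (.L 4) (2 ^ 1) := h5
    rw [show Typ.D (.L 4) (2 ^ 1) = 1 by decide, one_mul] at h7
    exact h7.trans (by decide +kernel)
  rw [h6] at h3
  norm_num at h3

/-- `GpOm.Row.NonIso.psu` -/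
theorem om_psu (F : Type) [Field F] [Fintype F] (q p : ℕ) (hq : Even q) (hF : Fintype.card F = q ^ 2)
    (h3 : ¬ (q = 2 ∧ p = 3)) (hp : p.Prime) (hp2 : p ≠ 2) (K : Type u) [Group K] [Finite K]
    (e : Nonempty (K ≃* PSU 4 F q)) (hr : ¬ PRankLE p 2 K) : ¬ InC p K ∧ ¬ InT p K :=
  psu hF hq hp hp2 le_rfl (fun h1 h2 => h3 ⟨h2.1, h1⟩) (rank_mono hp (by norm_num) hr) e

/-- `GpOm.Row.NonIso.plus` -/
theorem om_plus (F : Type) [Field F] [Fintype F] (m p : ℕ) (hF : Even (Fintype.card F)) (hm : 4 ≤ m)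
    (h3 : ¬ (m = 4 ∧ Fintype.card F = 2 ∧ p = 3)) (hp : p.Prime) (hp2 : p ≠ 2) (K : Type u) [Group K] [Finite K]
    (e : Nonempty (K ≃* POmega F (quadFormPlus m F))) (hr : ¬ PRankLE p 2 K) : ¬ InC p K ∧ ¬ InT p K :=
  omegaPlus hF hp hp2 hm h3 (rank_mono hp (by norm_num) hr) e

/-- `GpOm.Row.NonIso.minus` -/
theorem om_minus (F : Type) [Field F] [Fintype F] (m : ℕ) (a b : F) (p : ℕ) (hF : Even (Fintype.card F)) (hm : 4 ≤ m)
    (hab : ∀ z₁ z₂ : F, z₁ ^ 2 + a * z₁ * z₂ + b * z₂ ^ 2 = 0 → z₁ = 0 ∧ z₂ = 0) (hp : p.Prime) (hp2 : p ≠ 2)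
    (K : Type u) [Group K] [Finite K] (e : Nonempty (K ≃* POmega F (quadFormMinus (m - 1) F a b)))
    (hr : ¬ PRankLE p 2 K) : ¬ InC p K ∧ ¬ InT p K :=
  omegaMinus hF hp hp2 hm hab (rank_mono hp (by norm_num) hr) e

end Cfsg.Agent.NotCT

end
end

-- part: NotCT/OddOrd
section
prune_inst 0x2004080010000000000042000000000000000000000010400400000610000040000040000d0000621000180000081110000002100000000030000006080400040200804c0300280006002003180c00000000000000000000008000041000200000000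
set_option linter.all false

/-!
# Odd characteristic: orders (helper77)

* `typ_mem_odd` : if `|X| = |s(r ^ j)| = n0`, `r` odd, then `(r, s, j)` is in an explicit list (kernel check);
* `no_ltwo_odd` : `|s(r ^ j)| ≠ |L_2(q)|` for `s ≠ L_2, ²G_2`, `r`, `q` odd;
* `odd_m11`, ..., `odd_m`, `odd_tits`, `odd_alt7`, ... : the sporadic groups, the Tits group, small alternating groups.
-/

set_option autoImplicit false

namespace Cfsg.Agent.NotCT

open Cfsg

/-- the primes up to 71 -/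
def primes71 : List ℕ := [2, 3, 5, 7, 11, 13, 17, 19, 23, 29, 31, 37, 41, 43, 47, 53, 59, 61, 67, 71]

theorem prime_of_mem {p : ℕ} (h : p ∈ primes71) : p.Prime := by
  simp only [primes71, List.mem_cons, List.not_mem_nil, or_false] at h
  rcases h with rfl | rfl | rfl | rfl | rfl | rfl | rfl | rfl | rfl | rfl | rfl | rfl | rfl | rfl | rfl | rfl |
    rfl | rfl | rfl | rfl <;> norm_num

/-- `L` is the factorization of `n0` -/
def facOK (n0 : ℕ) (L : List (ℕ × ℕ)) : Bool :=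
  L.all (fun x => primes71.contains x.1 && (n0 % x.1 ^ (x.2 + 1) != 0)) && (n0 == (L.map fun x => x.1 ^ x.2).prod)

section

variable {X : Type*} {s : Typ} {r j : ℕ}

theorem rpow_ne_one (hr : r.Prime) (hv : s.Valid r j) (h : HasOrd s (r ^ j) X) : r ∣ Nat.card X :=
  (dvd_pow_self r (Nat.mul_pos (one_le_k hv) (N_pos hv)).ne').trans (dvd_card hr hv h)

end

end Cfsg.Agent.NotCT

private theorem dce_b6ed6f95a24a : _root_.True := by
  try have : _root_.True := by simp only [_root_.Cfsg.Agent.NotCT.primes71.eq_1]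
  exact _root_.True.intro
end

-- part: H283/SporLie
section
set_option linter.all false
open scoped Cfsg.Agent.FastGrp
/-!
# The sporadic groups and the Tits group are not of Lie type, in any characteristic (helper283)

`not_lie : IsLieTypeChar p S → IsSporadicGroup S ∨ IsoTits S → False`, by orders.
-/

set_option autoImplicit false

namespace Cfsg.Agent.H283.SporLie

open Cfsg Cfsg.Agent.NotCT

universe u

/-- the order check for all primes -/
def chkAll (n0 : ℕ) (L : List (ℕ × ℕ)) : Bool :=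
  facOK n0 L && L.all fun x => chk n0 x.1 x.2 []

theorem no_lie {X : Type*} [Group X] {p : ℕ} (hp : p.Prime) (hl : IsLieTypeChar p X) {n0 : ℕ} (hc : Nat.card X = n0)
    (L : List (ℕ × ℕ)) (hchk : chkAll n0 L = true) : False := by
  obtain ⟨s, j, hv, ht⟩ := exists_typ hp hl
  have h := card_eq hp hv ht
  unfold chkAll facOK at hchk
  simp only [Bool.and_eq_true, List.all_eq_true, beq_iff_eq, bne_iff_ne, ne_eq,
    List.contains_iff_mem] at hchk
  obtain ⟨⟨h1, h2⟩, h3⟩ := hchk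
  have h4 := rpow_ne_one hp hv h
  rw [hc, h2] at h4
  obtain ⟨y, hy, hry⟩ := (hp.prime.dvd_prod_iff).1 h4
  obtain ⟨x, hx, rfl⟩ := List.mem_map.1 hy
  have h5 := hp.dvd_of_dvd_pow hry
  have hxp := prime_of_mem (h1 x hx).1
  have h6 : p = x.1 := (Nat.prime_dvd_prime_iff_eq hp hxp).1 h5
  have h7 : p ^ x.2 ∣ n0 := by
    rw [h2, h6]
    exact List.dvd_prod (List.mem_map_of_mem hx)
  have h8 : ¬ p ^ (x.2 + 1) ∣ n0 := by
    rw [h6]
    exact fun h => (h1 x hx).2 (Nat.mod_eq_zero_of_dvd h)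
  have h9 := h3 x hx
  rw [← h6] at h9
  have h10 := typ_mem hp hv h hc h7 h8 h9
  simp at h10

theorem not_lie {X : Type u} [Group X] {p : ℕ} (hp : p.Prime) (hl : IsLieTypeChar p X) :
    ¬ (IsSporadicGroup X ∨ Lie.IsoTits X) := by
  rintro ((hs | hs | hs | hs | hs | hs | hs | hs | hs | hs | hs | hs | hs | hs | hs | hs | hs | hs | hs | hs | hs |
    hs | hs | hs | hs | hs) | hs)
  · exact no_lie hp hl (Orders.m11 hs) [(2, 4), (3, 2), (5, 1), (11, 1)] (by decide +kernel)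
  · exact no_lie hp hl (Orders.m12 hs) [(2, 6), (3, 3), (5, 1), (11, 1)] (by decide +kernel)
  · exact no_lie hp hl (Orders.m22 hs) [(2, 7), (3, 2), (5, 1), (7, 1), (11, 1)] (by decide +kernel)
  · exact no_lie hp hl (Orders.m23 hs) [(2, 7), (3, 2), (5, 1), (7, 1), (11, 1), (23, 1)] (by decide +kernel)
  · exact no_lie hp hl (Orders.m24 hs) [(2, 10), (3, 3), (5, 1), (7, 1), (11, 1), (23, 1)] (by decide +kernel)
  · exact no_lie hp hl (Orders.j1 hs) [(2, 3), (3, 1), (5, 1), (7, 1), (11, 1), (19, 1)] (by decide +kernel)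
  · exact no_lie hp hl (Orders.j2 hs) [(2, 7), (3, 3), (5, 2), (7, 1)] (by decide +kernel)
  · exact no_lie hp hl (Orders.j3 hs) [(2, 7), (3, 5), (5, 1), (17, 1), (19, 1)] (by decide +kernel)
  · exact no_lie hp hl (Orders.j4 hs) [(2, 21), (3, 3), (5, 1), (7, 1), (11, 3), (23, 1), (29, 1), (31, 1), (37, 1),
      (43, 1)] (by decide +kernel)
  · exact no_lie hp hl (Orders.co1 hs) [(2, 21), (3, 9), (5, 4), (7, 2), (11, 1), (13, 1), (23, 1)] (by decide +kernel)
  · exact no_lie hp hl (Orders.co2 hs) [(2, 18), (3, 6), (5, 3), (7, 1), (11, 1), (23, 1)] (by decide +kernel)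
  · exact no_lie hp hl (Orders.co3 hs) [(2, 10), (3, 7), (5, 3), (7, 1), (11, 1), (23, 1)] (by decide +kernel)
  · exact no_lie hp hl (Orders.mcl hs) [(2, 7), (3, 6), (5, 3), (7, 1), (11, 1)] (by decide +kernel)
  · exact no_lie hp hl (Orders.hs hs) [(2, 9), (3, 2), (5, 3), (7, 1), (11, 1)] (by decide +kernel)
  · exact no_lie hp hl (Orders.suz hs) [(2, 13), (3, 7), (5, 2), (7, 1), (11, 1), (13, 1)] (by decide +kernel)
  · exact no_lie hp hl (Orders.he hs) [(2, 10), (3, 3), (5, 2), (7, 3), (17, 1)] (by decide +kernel)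
  · exact no_lie hp hl (Orders.ru hs) [(2, 14), (3, 3), (5, 3), (7, 1), (13, 1), (29, 1)] (by decide +kernel)
  · exact no_lie hp hl (Orders.on hs) [(2, 9), (3, 4), (5, 1), (7, 3), (11, 1), (19, 1), (31, 1)] (by decide +kernel)
  · exact no_lie hp hl (Orders.ly hs) [(2, 8), (3, 7), (5, 6), (7, 1), (11, 1), (31, 1), (37, 1), (67, 1)]
      (by decide +kernel)
  · exact no_lie hp hl (Orders.fi22 hs) [(2, 17), (3, 9), (5, 2), (7, 1), (11, 1), (13, 1)] (by decide +kernel)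
  · exact no_lie hp hl (Orders.fi23 hs) [(2, 18), (3, 13), (5, 2), (7, 1), (11, 1), (13, 1), (17, 1), (23, 1)]
      (by decide +kernel)
  · exact no_lie hp hl (Orders.fi24 hs) [(2, 21), (3, 16), (5, 2), (7, 3), (11, 1), (13, 1), (17, 1), (23, 1),
      (29, 1)] (by decide +kernel)
  · exact no_lie hp hl (Orders.hn hs) [(2, 14), (3, 6), (5, 6), (7, 1), (11, 1), (19, 1)] (by decide +kernel)
  · exact no_lie hp hl (Orders.th hs) [(2, 15), (3, 10), (5, 3), (7, 2), (13, 1), (19, 1), (31, 1)] (by decide +kernel)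
  · exact no_lie hp hl (Orders.b hs) [(2, 41), (3, 13), (5, 6), (7, 2), (11, 1), (13, 1), (17, 1), (19, 1), (23, 1),
      (31, 1), (47, 1)] (by decide +kernel)
  · exact no_lie hp hl (Orders.m hs) [(2, 46), (3, 20), (5, 9), (7, 6), (11, 2), (13, 3), (17, 1), (19, 1), (23, 1),
      (29, 1), (31, 1), (41, 1), (47, 1), (59, 1), (71, 1)] (by decide +kernel)
  · exact no_lie hp hl (Orders.tits hs) [(2, 11), (3, 3), (5, 2), (13, 1)] (by decide +kernel)

/-- the Tits group is not sporadic -/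
theorem not_tits_spor {X : Type u} [Group X] (h : Lie.IsoTits X) : ¬ IsSporadicGroup X := by
  have h0 := Orders.tits h
  rintro (hs | hs | hs | hs | hs | hs | hs | hs | hs | hs | hs | hs | hs | hs | hs | hs | hs | hs | hs | hs | hs |
    hs | hs | hs | hs | hs)
  · exact absurd (h0.symm.trans (Orders.m11 hs)) (by norm_num)
  · exact absurd (h0.symm.trans (Orders.m12 hs)) (by norm_num)
  · exact absurd (h0.symm.trans (Orders.m22 hs)) (by norm_num)
  · exact absurd (h0.symm.trans (Orders.m23 hs)) (by norm_num)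
  · exact absurd (h0.symm.trans (Orders.m24 hs)) (by norm_num)
  · exact absurd (h0.symm.trans (Orders.j1 hs)) (by norm_num)
  · exact absurd (h0.symm.trans (Orders.j2 hs)) (by norm_num)
  · exact absurd (h0.symm.trans (Orders.j3 hs)) (by norm_num)
  · exact absurd (h0.symm.trans (Orders.j4 hs)) (by norm_num)
  · exact absurd (h0.symm.trans (Orders.co1 hs)) (by norm_num)
  · exact absurd (h0.symm.trans (Orders.co2 hs)) (by norm_num)
  · exact absurd (h0.symm.trans (Orders.co3 hs)) (by norm_num)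
  · exact absurd (h0.symm.trans (Orders.mcl hs)) (by norm_num)
  · exact absurd (h0.symm.trans (Orders.hs hs)) (by norm_num)
  · exact absurd (h0.symm.trans (Orders.suz hs)) (by norm_num)
  · exact absurd (h0.symm.trans (Orders.he hs)) (by norm_num)
  · exact absurd (h0.symm.trans (Orders.ru hs)) (by norm_num)
  · exact absurd (h0.symm.trans (Orders.on hs)) (by norm_num)
  · exact absurd (h0.symm.trans (Orders.ly hs)) (by norm_num)
  · exact absurd (h0.symm.trans (Orders.fi22 hs)) (by norm_num)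
  · exact absurd (h0.symm.trans (Orders.fi23 hs)) (by norm_num)
  · exact absurd (h0.symm.trans (Orders.fi24 hs)) (by norm_num)
  · exact absurd (h0.symm.trans (Orders.hn hs)) (by norm_num)
  · exact absurd (h0.symm.trans (Orders.th hs)) (by norm_num)
  · exact absurd (h0.symm.trans (Orders.b hs)) (by norm_num)
  · exact absurd (h0.symm.trans (Orders.m hs)) (by norm_num)

end Cfsg.Agent.H283.SporLie
end

-- part: H808/SmallSylow
section
set_option linter.all false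
open scoped Cfsg.Agent.FastGrp

/-!
# Groups of Lie type with a small Sylow subgroup in the defining characteristic (helper808, for S4905)

* `card_lt_cube_two` : `|T| < |T|_2 ^ 3` in characteristic 2;
* `card_of_small_sylow` : if `9 ≤ |T|_p ≤ 18` then `|T| = |PSL_2(q)|`, `q = |T|_p`.
-/

set_option autoImplicit false

namespace Cfsg.Agent.H808.SmallSylow

open Cfsg Cfsg.Agent.NotCT

universe u

theorem card_lt_cube_two {T : Type u} [Group T] (h : IsLieTypeChar 2 T) :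
    Nat.card T < (ordProj[2] (Nat.card T)) ^ 3 :=
  Cfsg.Agent.H315.OrderCube.card_lt_cube Nat.prime_two h

theorem ordProj_eq {p : ℕ} (hp : p.Prime) {n a : ℕ} (hn : n ≠ 0) (h1 : p ^ a ∣ n) (h2 : ¬ p ^ (a + 1) ∣ n) :
    ordProj[p] n = p ^ a := by
  congr 1
  have h3 := (hp.pow_dvd_iff_le_factorization hn).1 h1
  have h4 : ¬ a + 1 ≤ n.factorization p := fun h => h2 ((hp.pow_dvd_iff_le_factorization hn).2 h)
  omega

/-- the types whose number of positive roots is at most 4 -/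
theorem typ_small {p k : ℕ} {t : Typ} (hp : p.Prime) (hv : t.Valid p k) (h1 : 9 ≤ p ^ (k * t.N))
    (h2 : p ^ (k * t.N) ≤ 18) : t = .L 2 := by
  have hk := one_le_k hv
  have hq2 : 2 ≤ p ^ k := (Nat.pow_le_pow_left hp.two_le k).trans' (by
    calc 2 = 2 ^ 1 := rfl
      _ ≤ 2 ^ k := Nat.pow_le_pow_right (by norm_num) hk)
  rw [pow_mul] at h1 h2
  set q := p ^ k with hq
  have hN : t.N ≤ 4 := by
    by_contra hcon
    push Not at hcon
    have h3 : 2 ^ 5 ≤ q ^ t.N := (Nat.pow_le_pow_left hq2 5).trans (Nat.pow_le_pow_right (by omega) hcon)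
    omega
  -- no cubes and only `2^4`
  have h3 : t.N ≠ 3 := by
    intro h
    rw [h] at h1 h2
    have h4 : q = 2 ∨ 3 ≤ q := by omega
    rcases h4 with h4 | h4
    · rw [h4] at h1; omega
    · have := Nat.pow_le_pow_left h4 3
      omega
  have h4 : t.N = 4 → q = 2 := by
    intro h
    rw [h] at h1 h2
    by_contra hcon
    have h4 : 3 ≤ q := by omega
    have := Nat.pow_le_pow_left h4 4
    omega
  cases t with
  | L n =>
    obtain ⟨-, hn, -⟩ := hv
    simp only [Typ.N] at hN h3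
    have h5 : n < 4 := by
      by_contra hcon
      push Not at hcon
      have : 4 * 3 ≤ n * (n - 1) := Nat.mul_le_mul hcon (by omega)
      omega
    interval_cases n
    · rfl
    · norm_num at h3
  | S m =>
    obtain ⟨-, hm, hm2⟩ := hv
    simp only [Typ.N] at hN h3 h4
    have h5 : m < 3 := by
      by_contra hcon
      push Not at hcon
      have := Nat.pow_le_pow_left hcon 2
      omega
    have h6 : m = 2 := by omega
    have h7 := h4 (by rw [h6]; norm_num)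
    have h8 := hm2 h6
    omega
  | U n =>
    obtain ⟨-, hn, -⟩ := hv
    simp only [Typ.N] at hN h3
    have h5 : n < 4 := by
      by_contra hcon
      push Not at hcon
      have : 4 * 3 ≤ n * (n - 1) := Nat.mul_le_mul hcon (by omega)
      omega
    interval_cases n
    norm_num at h3
  | OO m =>
    obtain ⟨-, hm, -⟩ := hv
    simp only [Typ.N] at hN
    have := Nat.pow_le_pow_left hm 2
    omega
  | OP m =>
    obtain ⟨-, hm⟩ := hv
    simp only [Typ.N] at hN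
    have : 4 * 3 ≤ m * (m - 1) := Nat.mul_le_mul hm (by omega)
    omega
  | OM m =>
    obtain ⟨-, hm⟩ := hv
    simp only [Typ.N] at hN
    have : 4 * 3 ≤ m * (m - 1) := Nat.mul_le_mul hm (by omega)
    omega
  | SZ =>
    obtain ⟨hp2, hk3, -⟩ := hv
    simp only [Typ.N] at h2
    have h5 : 2 ^ 3 ≤ q := by
      rw [hq, hp2]
      exact Nat.pow_le_pow_right (by norm_num) hk3
    have := Nat.pow_le_pow_left h5 2
    omega
  | RG => exact absurd rfl h3
  | _ => simp only [Typ.N] at hN; omega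

theorem card_of_small_sylow {p : ℕ} (hp : p.Prime) {T : Type u} [Group T] [Finite T] [IsSimpleGroup T]
    (h : IsLieTypeChar p T) (h1 : 9 ≤ ordProj[p] (Nat.card T)) (h2 : ordProj[p] (Nat.card T) ≤ 18) :
    Nat.card T * Nat.gcd 2 (ordProj[p] (Nat.card T) - 1) =
      ordProj[p] (Nat.card T) * ((ordProj[p] (Nat.card T)) ^ 2 - 1) := by
  obtain ⟨t, k, hv, ht⟩ := exists_typ hp h
  have ho := card_eq hp hv ht
  have h0 : ordProj[p] (Nat.card T) = p ^ (k * t.N) :=
    ordProj_eq hp Nat.card_pos.ne' (dvd_card hp hv ho) (not_dvd_card hp hv ho)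
  rw [h0] at h1 h2 ⊢
  obtain rfl := typ_small hp hv h1 h2
  have h3 : (Typ.L 2).D (p ^ k) * Nat.card T = (p ^ k) ^ (Typ.L 2).N * (Typ.L 2).P (p ^ k) := ho
  simp only [Typ.D, Typ.N, Typ.P, pA] at h3 ⊢
  norm_num at h3 ⊢
  rw [mul_comm]
  exact h3

end Cfsg.Agent.H808.SmallSylow
end
end
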