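import Mathlib
import Cfsg.Agent.S0309
import Cfsg.Agent.S0310
import Cfsg.Agent.S0311
import Cfsg.Agent.S0312
import Cfsg.Agent.S0314
import Cfsg.Prelude.Def_LieExceptional
import Cfsg.Prelude.Def_LieRecognition
import Cfsg.Agent.FastGrp
import Cfsg.Agent.Prune
set_option linter.all false
prune_inst 0x7f00000000000000000000000000000000000000000000000000000000000000000000000000000000000000000000000000000000000000000000000000000000000000000000000000000000000000003fffffffffffffffffffffffffffbeffbdffffffff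
open scoped Cfsg.Agent.FastGrp
/-!
# Quotients of (B,N)-pairs

`quo P f` : the image of a (B,N)-pair under a surjective homomorphism is a (B,N)-pair; the distinguished generators are
the images of those which are not in `B ker f`.
-/

set_option autoImplicit false

namespace Cfsg.Agent.H283.DescQuot

open Cfsg

variable {G Q : Type*} [Group G] [Group Q] (P : BNPair G) (f : G →* Q)

/-- `B ker f` -/
def KK : Subgroup G := (P.B.map f).comap f

theorem mem_KK {g : G} : g ∈ KK P f ↔ f g ∈ P.B.map f := Iff.rfl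

theorem B_le_KK : P.B ≤ KK P f := fun b hb => ⟨b, hb, rfl⟩

theorem ker_le_KK {x : G} (hx : f x = 1) : x ∈ KK P f := by
  rw [mem_KK, hx]; exact one_mem _

theorem KK_eq : KK P f = P.parabolic {s | s ∈ P.S ∧ s ∈ KK P f} := by
  obtain ⟨J, hJ, h⟩ := S0311.result P (KK P f) (B_le_KK P f)
  refine le_antisymm ?_ (sup_le (B_le_KK P f) ((Subgroup.closure_le _).2 fun s hs => hs.2))
  conv_lhs => rw [h]
  refine sup_le le_sup_left ?_
  refine le_trans (Subgroup.closure_mono ?_) le_sup_right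
  intro s hs
  refine ⟨hJ hs, ?_⟩
  rw [h]
  exact Subgroup.mem_sup_right (Subgroup.subset_closure hs)

theorem mem_of_double {g n : G} (h : g ∈ DoubleCoset.doubleCoset n (P.B : Set G) P.B) (hg : g ∈ KK P f) :
    n ∈ KK P f := by
  rw [DoubleCoset.mem_doubleCoset] at h
  obtain ⟨b, hb, b', hb', rfl⟩ := h
  have h1 := mul_mem (mul_mem (inv_mem (B_le_KK P f hb)) hg) (inv_mem (B_le_KK P f hb'))
  have e1 : b⁻¹ * (b * n * b') * b'⁻¹ = n := by group
  rwa [e1] at h1

theorem conj_gen {s j : G} (hs : s ∈ P.S) (hsK : s ∉ KK P f) (hj : j ∈ P.S) (hjK : j ∈ KK P f) :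
    s * j * s⁻¹ ∈ KK P f := by
  obtain ⟨b, hb, hbj⟩ := hjK
  have hker : f (s * b * (j⁻¹ * s⁻¹)) = 1 := by
    rw [map_mul, map_mul, map_mul, map_inv, map_inv, hbj]; group
  have h1 := P.mul_mem_union s hs (j⁻¹ * s⁻¹) (mul_mem (inv_mem (P.subset hj)) (inv_mem (P.subset hs))) b hb
  have hK := ker_le_KK P f hker
  have hjK : j ∈ KK P f := ⟨b, hb, hbj⟩
  rcases h1 with h1 | h1
  · have h2 := mem_of_double P f h1 hK
    have h3 := inv_mem h2
    have e1 : (s * (j⁻¹ * s⁻¹))⁻¹ = s * j * s⁻¹ := by group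
    rwa [e1] at h3
  · exfalso
    have h2 := mem_of_double P f h1 hK
    have h3 := inv_mem (mul_mem hjK h2)
    have e1 : (j * (j⁻¹ * s⁻¹))⁻¹ = s := by group
    rw [e1] at h3
    exact hsK h3

theorem conj_closure {s : G} (hs : s ∈ P.S) (hsK : s ∉ KK P f) {n : G}
    (hn : n ∈ Subgroup.closure {s | s ∈ P.S ∧ s ∈ KK P f}) : s * n * s⁻¹ ∈ KK P f := by
  induction hn using Subgroup.closure_induction with
  | mem x hx => exact conj_gen P f hs hsK hx.1 hx.2
  | one => simp [one_mem]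
  | mul x y _ _ hx hy =>
    have h1 := mul_mem hx hy
    have e1 : s * x * s⁻¹ * (s * y * s⁻¹) = s * (x * y) * s⁻¹ := by group
    rwa [e1] at h1
  | inv x _ hx =>
    have h1 := inv_mem hx
    have e1 : (s * x * s⁻¹)⁻¹ = s * x⁻¹ * s⁻¹ := by group
    rwa [e1] at h1

theorem conj_S {s : G} (hs : s ∈ P.S) {m : G} (hm : m ∈ P.N) (hmK : m ∈ KK P f) : s * m * s⁻¹ ∈ KK P f := by
  by_cases hsK : s ∈ KK P f
  · exact mul_mem (mul_mem hsK hmK) (inv_mem hsK)
  have hJ : {s | s ∈ P.S ∧ s ∈ KK P f} ⊆ P.S := fun s hs => hs.1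
  have hmK' := hmK
  rw [KK_eq P f] at hmK'
  obtain ⟨n, hn, hd⟩ := (S0310.result P hJ m).1 hmK'
  have hcl : Subgroup.closure {s | s ∈ P.S ∧ s ∈ KK P f} ≤ P.N :=
    (Subgroup.closure_le _).2 fun x hx => P.subset hx.1
  have hnN : n ∈ P.N := hcl hn
  have heq : n⁻¹ * m ∈ P.B := by
    refine (S0309.result P hnN hm).1 ?_
    exact (DoubleCoset.doubleCoset_eq_of_mem hd).symm
  have h1 := conj_closure P f hs hsK hn
  have h0 : n⁻¹ * m ∈ P.N := mul_mem (inv_mem hnN) hm
  have h2 := P.conj_mem s (P.subset hs) (n⁻¹ * m) ⟨heq, h0⟩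
  have h3 := mul_mem h1 (B_le_KK P f h2)
  have e1 : s * n * s⁻¹ * (s * (n⁻¹ * m) * s⁻¹) = s * m * s⁻¹ := by group
  rwa [e1] at h3

theorem conj_N {n : G} (hn : n ∈ P.N) {m : G} (hm : m ∈ P.N) (hmK : m ∈ KK P f) : n * m * n⁻¹ ∈ KK P f := by
  have key : ∀ n ∈ P.N, ∀ m ∈ P.N, m ∈ KK P f → n * m * n⁻¹ ∈ KK P f ∧ n⁻¹ * m * n ∈ KK P f := by
    intro n hn
    rw [← P.closure_sup] at hn
    have hN : ∀ x ∈ Subgroup.closure P.S, x ∈ P.N := fun x hx => by
      rw [← P.closure_sup]; exact Subgroup.mem_sup_left hx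
    have hle : Subgroup.closure P.S ⊔ (P.B ⊓ P.N) = Subgroup.closure (P.S ∪ ((P.B ⊓ P.N : Subgroup G) : Set G)) := by
      rw [Subgroup.closure_union, Subgroup.closure_eq]
    rw [hle] at hn
    have hle' : Subgroup.closure (P.S ∪ ((P.B ⊓ P.N : Subgroup G) : Set G)) ≤ P.N := by
      rw [← hle, P.closure_sup]
    induction hn using Subgroup.closure_induction with
    | mem x hx =>
      rcases hx with hx | hx
      · intro m hm hmK
        refine ⟨conj_S P f hx hm hmK, ?_⟩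
        have hsq : x * x ∈ P.B ⊓ P.N := ⟨P.sq_mem x hx, mul_mem (P.subset hx) (P.subset hx)⟩
        have h1 := conj_S P f hx (m := (x * x)⁻¹ * m * (x * x))
          (mul_mem (mul_mem (inv_mem hsq.2) hm) hsq.2)
          (mul_mem (mul_mem (inv_mem (B_le_KK P f hsq.1)) hmK) (B_le_KK P f hsq.1))
        have e1 : x * ((x * x)⁻¹ * m * (x * x)) * x⁻¹ = x⁻¹ * m * x := by group
        rwa [e1] at h1
      · intro m hm hmK
        have h2 := B_le_KK P f hx.1
        exact ⟨mul_mem (mul_mem h2 hmK) (inv_mem h2), mul_mem (mul_mem (inv_mem h2) hmK) h2⟩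
    | one => intro m hm hmK; simpa using hmK
    | mul x y hx hy ihx ihy =>
      intro m hm hmK
      have hxN := hle' hx
      have hyN := hle' hy
      constructor
      · have h1 := (ihy m hm hmK).1
        have h2 := (ihx _ (mul_mem (mul_mem hyN hm) (inv_mem hyN)) h1).1
        have e1 : x * (y * m * y⁻¹) * x⁻¹ = x * y * m * (x * y)⁻¹ := by group
        rwa [e1] at h2
      · have h1 := (ihx m hm hmK).2
        have h2 := (ihy _ (mul_mem (mul_mem (inv_mem hxN) hm) hxN) h1).2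
        have e1 : y⁻¹ * (x⁻¹ * m * x) * y = (x * y)⁻¹ * m * (x * y) := by group
        rwa [e1] at h2
    | inv x hx ih =>
      intro m hm hmK
      have h1 := ih m hm hmK
      exact ⟨by simpa using h1.2, by simpa using h1.1⟩
  exact (key n hn m hm hmK).1

/-- **The quotient** of a (B,N)-pair. -/
def quo (hf : Function.Surjective f) : BNPair Q where
  B := P.B.map f
  N := P.N.map f
  S := f '' {s | s ∈ P.S ∧ s ∉ KK P f}
  sup_eq_top := by
    rw [← Subgroup.map_sup, P.sup_eq_top, ← MonoidHom.range_eq_map, MonoidHom.range_eq_top.2 hf]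
  conj_mem := by
    rintro _ ⟨n, hn, rfl⟩ _ ⟨⟨b, hb, hbm⟩, ⟨m, hm, rfl⟩⟩
    have h1 : m ∈ KK P f := ⟨b, hb, hbm⟩
    have h2 := conj_N P f hn hm h1
    rw [mem_KK, map_mul, map_mul, map_inv] at h2
    exact h2
  subset := by
    rintro _ ⟨s, hs, rfl⟩
    exact ⟨s, P.subset hs.1, rfl⟩
  sq_mem := by
    rintro _ ⟨s, hs, rfl⟩
    exact ⟨s * s, P.sq_mem s hs.1, map_mul f s s⟩
  inj := by
    rintro _ ⟨s, hs, rfl⟩ _ ⟨s', hs', rfl⟩ h
    have h0 : s⁻¹ * s' ∈ KK P f := by
      rw [mem_KK, map_mul, map_inv]; exact h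
    set J := {s | s ∈ P.S ∧ s ∈ KK P f} with hJ
    have hJS : J ⊆ P.S := fun x hx => hx.1
    have h1 : s' ∈ P.parabolic (J ∪ {s}) := by
      have h2 : KK P f ≤ P.parabolic (J ∪ {s}) := by
        rw [KK_eq P f]
        exact sup_le_sup_left (Subgroup.closure_mono Set.subset_union_left) _
      have h3 : s ∈ P.parabolic (J ∪ {s}) := Subgroup.mem_sup_right (Subgroup.subset_closure (Or.inr rfl))
      have h4 := mul_mem h3 (h2 h0)
      rwa [mul_inv_cancel_left] at h4
    have h2 : P.parabolic (J ∪ {s, s'}) = P.parabolic (J ∪ {s}) := by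
      refine le_antisymm (sup_le le_sup_left ((Subgroup.closure_le _).2 ?_))
        (sup_le_sup_left (Subgroup.closure_mono (Set.union_subset_union_right _ (by simp))) _)
      rintro x (hx | hx | hx)
      · exact Subgroup.mem_sup_right (Subgroup.subset_closure (Or.inl hx))
      · exact Subgroup.mem_sup_right (Subgroup.subset_closure (Or.inr hx))
      · rw [Set.mem_singleton_iff] at hx
        rw [hx]; exact h1
    have hS1 : J ∪ {s, s'} ⊆ P.S := by
      rintro x (hx | hx | hx)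
      · exact hJS hx
      · rw [hx]; exact hs.1
      · rw [Set.mem_singleton_iff] at hx
        rw [hx]; exact hs'.1
    have hS2 : J ∪ {s} ⊆ P.S := by
      rintro x (hx | hx)
      · exact hJS hx
      · rw [Set.mem_singleton_iff] at hx
        rw [hx]; exact hs.1
    have h3 := S0314.result P hS1 hS2 h2
    have h4 : s' ∈ J ∪ {s} := by
      rw [← h3]; right; simp
    rcases h4 with h4 | h4
    · exact absurd h4.2 hs'.2
    · rw [Set.mem_singleton_iff] at h4
      rw [h4]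
  closure_sup := by
    apply le_antisymm
    · refine sup_le ((Subgroup.closure_le _).2 ?_) inf_le_right
      rintro _ ⟨s, hs, rfl⟩
      exact ⟨s, P.subset hs.1, rfl⟩
    · have h1 : P.N.map f = (Subgroup.closure P.S).map f ⊔ (P.B ⊓ P.N).map f := by
        rw [← Subgroup.map_sup, P.closure_sup]
      conv_lhs => rw [h1]
      refine sup_le ?_ ?_
      · rw [MonoidHom.map_closure]
        refine (Subgroup.closure_le _).2 ?_
        rintro _ ⟨s, hs, rfl⟩
        by_cases hsK : s ∈ KK P f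
        · exact Subgroup.mem_sup_right ⟨hsK, ⟨s, P.subset hs, rfl⟩⟩
        · exact Subgroup.mem_sup_left (Subgroup.subset_closure ⟨s, ⟨hs, hsK⟩, rfl⟩)
      · refine le_trans ?_ le_sup_right
        rintro _ ⟨b, hb, rfl⟩
        exact ⟨⟨b, hb.1, rfl⟩, ⟨b, hb.2, rfl⟩⟩
  mul_mem_union := by
    rintro _ ⟨s, hs, rfl⟩ _ ⟨n, hn, rfl⟩ _ ⟨b, hb, rfl⟩
    rcases P.mul_mem_union s hs.1 n hn b hb with h | h
    · left
      rw [DoubleCoset.mem_doubleCoset] at h ⊢
      obtain ⟨x, hx, y, hy, he⟩ := h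
      refine ⟨f x, ⟨x, hx, rfl⟩, f y, ⟨y, hy, rfl⟩, ?_⟩
      rw [← map_mul, ← map_mul, he]
      simp only [map_mul]
    · right
      rw [DoubleCoset.mem_doubleCoset] at h ⊢
      obtain ⟨x, hx, y, hy, he⟩ := h
      refine ⟨f x, ⟨x, hx, rfl⟩, f y, ⟨y, hy, rfl⟩, ?_⟩
      rw [← map_mul, ← map_mul, he]
      simp only [map_mul]
  conj_ne := by
    rintro _ ⟨s, hs, rfl⟩ hcon
    apply hs.2
    have hsq : s * s ∈ P.B := P.sq_mem s hs.1
    have hnorm : ∀ x ∈ KK P f, s * x * s⁻¹ ∈ KK P f := by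
      intro x hx
      have h1 : f s * f x * f s ∈ ((P.B.map f : Subgroup Q) : Set Q) := by
        rw [← hcon]; exact ⟨f x, hx, rfl⟩
      have h2 : s * x * s ∈ KK P f := by
        rw [mem_KK, map_mul, map_mul]; exact h1
      have h3 := mul_mem h2 (inv_mem (B_le_KK P f hsq))
      have e1 : s * x * s * (s * s)⁻¹ = s * x * s⁻¹ := by group
      rwa [e1] at h3
    have hJ : {s | s ∈ P.S ∧ s ∈ KK P f} ⊆ P.S := fun x hx => hx.1
    have h4 : s ∈ Subgroup.normalizer (KK P f : Set G) := by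
      rw [Subgroup.mem_normalizer_iff]
      intro x
      refine ⟨fun hx => hnorm x hx, fun hx => ?_⟩
      have h5 := hnorm _ hx
      have h6 := mul_mem (mul_mem (inv_mem (B_le_KK P f hsq)) h5) (B_le_KK P f hsq)
      have e1 : (s * s)⁻¹ * (s * (s * x * s⁻¹) * s⁻¹) * (s * s) = x := by group
      rwa [e1] at h6
    rw [KK_eq P f, S0312.result P hJ, ← KK_eq P f] at h4
    exact h4

/-- the quotient of a split (B,N)-pair -/
theorem quo_split (hf : Function.Surjective f) {U : Subgroup G}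
    (hB : ∀ b ∈ P.B, ∃ u ∈ U, ∃ t ∈ P.B ⊓ P.N, b = u * t) :
    ∀ b ∈ (quo P f hf).B, ∃ u ∈ U.map f, ∃ t ∈ (quo P f hf).B ⊓ (quo P f hf).N, b = u * t := by
  rintro _ ⟨b, hb, rfl⟩
  obtain ⟨u, hu, t, ht, rfl⟩ := hB b hb
  exact ⟨f u, ⟨u, hu, rfl⟩, f t, ⟨⟨t, ht.1, rfl⟩, ⟨t, ht.2, rfl⟩⟩, map_mul f u t⟩

end Cfsg.Agent.H283.DescQuot
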